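import Cfsg.Agent.Lib.OrderChar.D1More
import Cfsg.Agent.Lib.Golay.PCGroup
import Cfsg.Agent.Lib.Golay.More

/-!
Identification of a group acting on `p + 1` points with an explicit subgroup of `M24`.
-/

set_option autoImplicit false

namespace Cfsg.Lib.OC

open Subgroup Equiv MulAction PC

/-- the code of `i ↦ a i + b` on `ZMod p`, fixing the point `p` -/
def cAff (k p a b : ℕ) : ℕ := mk k (p + 1) fun i => cond (Nat.blt i p) ((a * i + b) % p) p

section label

variable {G Ω : Type*} [Group G] [MulAction G Ω] {p q : ℕ} [hp : Fact p.Prime] [hq : Fact q.Prime]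

theorem card_fixed_modEq [Finite Ω] {x : G} (hx : orderOf x = p) :
    Nat.card Ω ≡ Nat.card (fixedBy Ω x) [MOD p] := by
  have h := (IsPGroup.of_card (p := p) (G := zpowers x) (n := 1)
    (by rw [Nat.card_zpowers, hx, pow_one])).card_modEq_card_fixedPoints Ω
  have : fixedPoints (zpowers x) Ω = fixedBy Ω x := by
    ext a
    exact ⟨fun h => h ⟨x, mem_zpowers x⟩, fun h ⟨_, k, e⟩ => by
      subst e; exact fixedBy_subset_fixedBy_zpow Ω x k h⟩
  rwa [this] at h

theorem exists_label [Finite G] [Finite Ω] (hΩ : Nat.card Ω = p + 1)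
    (hf : Function.Injective (toPermHom G Ω)) {x y : G} (hx : orderOf x = p) (hy : orderOf y = q)
    {r : ℕ} (hr : y * x * y⁻¹ = x ^ r) (hpq : ¬ q ∣ p) {ω : Ω} (hxω : x • ω = ω) (hyω : y • ω = ω)
    {k : ℕ} (hk : p + 1 ≤ 2 ^ k) :
    ∃ E : Enc Ω (p + 1), E.pt p = ω ∧ Rep E k (cAff k p 1 1) (toPermHom G Ω x) ∧
      Rep E k (cAff k p r 0) (toPermHom G Ω y) := by
  classical
  have h1 : ∀ a, x • a = a → a = ω := by
    have h2 := card_fixed_modEq (Ω := Ω) hx
    have h3 : Nat.card (fixedBy Ω x) < p + 1 := by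
      obtain ⟨a, ha⟩ : ∃ a : Ω, ¬ x • a = a := by
        by_contra hn
        push Not at hn
        have : x = 1 := hf (by ext a; simp [hn])
        rw [this, orderOf_one] at hx
        exact hp.out.one_lt.ne hx
      exact hΩ ▸ Finite.card_subtype_lt (p := fun a => a ∈ fixedBy Ω x) ha
    have h4 : Nat.card (fixedBy Ω x) = 1 := by
      rw [hΩ, Nat.ModEq, Nat.add_mod_left, Nat.mod_eq_of_lt hp.out.one_lt] at h2
      rcases (Nat.lt_succ_iff.mp h3).eq_or_lt with e | e
      · rw [e, Nat.mod_self] at h2; omega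
      · rw [Nat.mod_eq_of_lt e] at h2; exact h2.symm
    have := (Nat.card_eq_one_iff_unique.mp h4).1
    exact fun a ha => congrArg Subtype.val (Subsingleton.elim (⟨a, ha⟩ : fixedBy Ω x) ⟨ω, hxω⟩)
  obtain ⟨o, ho, hoω⟩ : ∃ o, y • o = o ∧ o ≠ ω := by
    by_contra hn
    push Not at hn
    have h2 := card_fixed_modEq (Ω := Ω) hy
    rw [Nat.card_eq_one_iff_exists.mpr ⟨(⟨ω, hyω⟩ : fixedBy Ω y), fun a => Subtype.ext (hn _ a.2)⟩,
      hΩ] at h2
    exact hpq ((Nat.modEq_zero_iff_dvd.mp (Nat.ModEq.add_right_cancel' 1 (by simpa using h2))))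
  have h2 : ∀ i, x ^ i • o = o → p ∣ i := by
    intro i hi
    by_contra hn
    obtain ⟨m, hm⟩ := mem_zpowers_pow_of_pow (p := p) (u := x) (k := 1) (n := i)
      (by rw [pow_one, ← hx, pow_orderOf_eq_one]) hn
    have := fixedBy_subset_fixedBy_zpow Ω (x ^ i) m hi
    rw [zpow_natCast, hm] at this
    exact hoω (h1 o this)
  have h3 : ∀ i, x ^ i • o ≠ ω := fun i e => hoω (by
    rw [← inv_smul_eq_iff.mpr e.symm, inv_smul_eq_iff]
    exact (fixedBy_subset_fixedBy_zpow Ω x (i : ℕ) hxω).symm.trans (by rw [zpow_natCast]))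
  let f : ℕ → Ω := fun i => if i < p then x ^ i • o else ω
  have hinj : Function.Injective fun i : Fin (p + 1) => f i := by
    intro i j h
    simp only [f] at h
    split_ifs at h with hi hj hj
    · have key : ∀ a b, a ≤ b → b < p → x ^ a • o = x ^ b • o → a = b := fun a b h4 h5 h6 => by
        obtain ⟨c, rfl⟩ := Nat.exists_eq_add_of_le h4
        rw [pow_add, mul_smul, smul_left_cancel_iff] at h6
        rw [Nat.eq_zero_of_dvd_of_lt (h2 c h6.symm) (by omega), add_zero]
      rcases le_total (i : ℕ) j with h4 | h4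
      · exact Fin.ext (key _ _ h4 hj h)
      · exact Fin.ext (key _ _ h4 hi h.symm).symm
    · exact (h3 _ h).elim
    · exact (h3 _ h.symm).elim
    · exact Fin.ext (by omega)
  let e := Equiv.ofBijective _ ((Nat.bijective_iff_injective_and_card _).mpr
    ⟨hinj, by rw [hΩ, Nat.card_fin]⟩)
  let E : Enc Ω (p + 1) :=
    { idx := fun a => e.symm a
      pt := f
      idx_lt := fun a => (e.symm a).2
      pt_idx := fun a => e.apply_symm_apply a
      idx_pt := fun i hi => congrArg Fin.val (e.symm_apply_apply ⟨i, hi⟩) }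
  have h4 : ∀ i, E.idx (x ^ i • o) = i % p := fun i => by
    rw [← E.idx_pt (i % p) ((Nat.mod_lt _ hp.out.pos).trans p.lt_succ_self)]
    congr 1
    change _ = if i % p < p then _ else _
    rw [if_pos (Nat.mod_lt _ hp.out.pos), ← hx, pow_mod_orderOf]
  have h5 : E.pt p = ω := if_neg (lt_irrefl p)
  have h6 : ∀ (g : G) (a b : ℕ), g • ω = ω → (∀ i, g • x ^ i • o = x ^ (a * i + b) • o) →
      Rep E k (cAff k p a b) (toPermHom G Ω g) := by
    intro g a b hg h a0
    rw [cAff, app_mk k (p + 1) _ (fun i _ => ?_) _ (E.idx_lt a0)]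
    · obtain ⟨i, hi, rfl⟩ : ∃ i, i < p + 1 ∧ E.pt i = a0 := ⟨_, E.idx_lt a0, E.pt_idx a0⟩
      rw [E.idx_pt i hi, toPermHom_apply, toPerm_apply]
      by_cases h7 : i < p
      · rw [Nat.blt_eq.mpr h7, cond_true, show E.pt i = x ^ i • o from if_pos h7, h, h4]
      · obtain rfl : i = p := by omega
        rw [h5, hg, ← h5, E.idx_pt _ hi]
        have : Nat.blt i i = false := by rw [← Bool.not_eq_true, Nat.blt_eq]; omega
        rw [this, cond_false]
    · have := Nat.mod_lt (a * i + b) hp.out.pos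
      cases Nat.blt i p <;> simp only [cond_true, cond_false] <;> omega
  refine ⟨E, h5, h6 x 1 1 hxω fun i => by rw [one_mul, pow_succ', mul_smul], h6 y r 0 hyω fun i => ?_⟩
  have h7 := conj_pow_pow hr 1 i
  simp only [pow_one] at h7
  rw [add_zero, ← h7, mul_smul, mul_smul, inv_smul_eq_iff.mpr ho.symm]

end label

/-- `e`-fold application of the code `c` -/
def iterA (k c e v : ℕ) : ℕ := Nat.rec (motive := fun _ => ℕ) v (fun _ acc => app k c acc) e

/-- selection among four values -/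
def sel4 (j a b c d : ℕ) : ℕ := cond (Nat.beq j 0) a (cond (Nat.beq j 1) b (cond (Nat.beq j 2) c d))

/-- the candidate with given values at the four base points -/
def cand (k n cys tJ tE a b c d : ℕ) : ℕ :=
  mk k n fun i => iterA k cys (app k tE i) (sel4 (app 2 tJ i) a b c d)

/-- the tables describe every point as an image of a base point -/
def tabOK (k n cy tJ tE a b c d : ℕ) : Bool :=
  allLt n fun i => Nat.beq (iterA k cy (app k tE i) (sel4 (app 2 tJ i) a b c d)) i

/-- the power with exponent the product of the list -/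
def powL (k n : ℕ) (fs : List ℕ) : ℕ → ℕ :=
  List.rec (motive := fun _ => ℕ → ℕ) (fun c => powc k n c 1)
    (fun f _ r c => force (powc k n c f) r) fs

/-- every candidate passing the filter is good or generates an element of forbidden order -/
def candCheck (k n cys tJ tE : ℕ) (flt : ℕ → Bool) (gens : List ℕ) (prog : List (ℕ × ℕ))
    (fs good : List ℕ) : Bool :=
  allLt n fun a => !(Nat.beq (app k cys a) a) || allLt n fun b => !(Nat.beq (app k cys b) b) ||
    allLt n fun c => allLt n fun d => force (cand k n cys tJ tE a b c d) fun w =>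
      !(flt w) || (subL [w] good ||
        !(allL (slp k n prog (w :: gens)) fun g => Nat.beq (powL k n fs g) (idc k n)))

/-- the code `m` on 24 points lifts the code `c` along the labelling `ι` -/
def liftOK (k n ι c m : ℕ) : Bool :=
  allLt n fun i => Nat.beq (app 5 m (app 5 ι i)) (app 5 ι (app k c i))

/-- the labelling `ι` is injective -/
def labOK (n ι : ℕ) : Bool :=
  allLt n fun i => Nat.blt (app 5 ι i) 24 &&
    allLt n fun j => Nat.beq i j || !(Nat.beq (app 5 ι i) (app 5 ι j))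

variable {α : Type*} {n k : ℕ} {E : Enc α n}

theorem idx_pow {c : ℕ} {Y : Perm α} (h : Rep E k c Y) (e : ℕ) (a : α) :
    E.idx ((Y ^ e) a) = iterA k c e (E.idx a) := by
  induction e with
  | zero => rfl
  | succ e ih => rw [pow_succ', Perm.mul_apply, h, ih]; rfl

theorem rep_fix_iff {c i : ℕ} {g : Perm α} (h : Rep E k c g) (hi : i < n) :
    app k c i = i ↔ g (E.pt i) = E.pt i := by
  have h1 := h (E.pt i)
  rw [E.idx_pt i hi] at h1
  rw [← h1]
  exact ⟨fun e => E.idx_inj (e.trans (E.idx_pt i hi).symm),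
    fun e => (congrArg E.idx e).trans (E.idx_pt i hi)⟩

theorem nrep_powL (hn : n ≤ 2 ^ k) (fs : List ℕ) {c : ℕ} {g : Perm α} (hg : Rep E k c g) :
    NRep E k (powL k n fs c) (g ^ fs.prod) := by
  induction fs generalizing c g with
  | nil => exact hg.npowc hn 1
  | cons f fs ih =>
    have : powL k n (f :: fs) c = force (powc k n c f) (powL k n fs) := rfl
    rw [this, force_eq, List.prod_cons, pow_mul]
    exact ih (hg.powc hn f)

theorem nrep_cand (hn : n ≤ 2 ^ k) {cy cys tJ tE a b c d : ℕ} {Y Z W : Perm α} (hY : Rep E k cy Y)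
    (hZ : Rep E k cys Z) (hW : W * Y = Z * W) (ht : tabOK k n cy tJ tE a b c d = true)
    (ha : a < n) (hb : b < n) (hc : c < n) (hd : d < n) :
    NRep E k (cand k n cys tJ tE (E.idx (W (E.pt a))) (E.idx (W (E.pt b))) (E.idx (W (E.pt c)))
      (E.idx (W (E.pt d)))) W := by
  have h1 : ∀ e, W * Y ^ e = Z ^ e * W := fun e => (SemiconjBy.pow_right hW e).eq
  have h2 : ∀ i, i < n → iterA k cys (app k tE i) (sel4 (app 2 tJ i) (E.idx (W (E.pt a)))
      (E.idx (W (E.pt b))) (E.idx (W (E.pt c))) (E.idx (W (E.pt d)))) = E.idx (W (E.pt i)) := by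
    intro i hi
    have h3 := Nat.eq_of_beq_eq_true ((allLt_iff _ _).mp ht i hi)
    obtain ⟨u, hu, h4, h5⟩ : ∃ u, u < n ∧ sel4 (app 2 tJ i) a b c d = u ∧
        sel4 (app 2 tJ i) (E.idx (W (E.pt a))) (E.idx (W (E.pt b))) (E.idx (W (E.pt c)))
          (E.idx (W (E.pt d))) = E.idx (W (E.pt u)) := by
      unfold sel4
      cases Nat.beq (app 2 tJ i) 0 <;> cases Nat.beq (app 2 tJ i) 1 <;>
        cases Nat.beq (app 2 tJ i) 2 <;> simp [ha, hb, hc, hd]
    rw [h4, ← E.idx_pt u hu, ← idx_pow hY] at h3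
    rw [h5, ← idx_pow hZ, ← Perm.mul_apply, ← h1, Perm.mul_apply]
    conv_rhs => rw [← h3, E.pt_idx]
  have h6 : ∀ i, i < n → iterA k cys (app k tE i) (sel4 (app 2 tJ i) (E.idx (W (E.pt a)))
      (E.idx (W (E.pt b))) (E.idx (W (E.pt c))) (E.idx (W (E.pt d)))) < 2 ^ k := fun i hi => by
    rw [h2 i hi]; exact (E.idx_lt _).trans_le hn
  exact ⟨fun x => by rw [cand, app_mk k n _ h6 _ (E.idx_lt x), h2 _ (E.idx_lt x), E.pt_idx],
    mk_lt _ _ _ h6⟩

theorem exists_good (hn : n ≤ 2 ^ k) {cy cys tJ tE a b c d : ℕ} {Y Z W : Perm α}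
    (hY : Rep E k cy Y) (hZ : Rep E k cys Z) (hW : W * Y = Z * W)
    (ht : tabOK k n cy tJ tE a b c d = true) (ha : a < n) (hb : b < n) (hc : c < n) (hd : d < n)
    (ha' : app k cy a = a) (hb' : app k cy b = b) {flt : ℕ → Bool} {gens fs good : List ℕ}
    {prog : List (ℕ × ℕ)} (h : candCheck k n cys tJ tE flt gens prog fs good = true)
    (K : Subgroup (Perm α)) (hK : W ∈ K) (hg : ∀ g ∈ gens, InH E k K g)
    (hbad : Nat.card K ∣ fs.prod) (hflt : ∀ w, NRep E k w W → flt w = true) :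
    ∃ w ∈ good, Rep E k w W := by
  have h0 := nrep_cand hn hY hZ hW ht ha hb hc hd
  have h1 : ∀ u, u < n → app k cy u = u → Nat.beq (app k cys (E.idx (W (E.pt u))))
      (E.idx (W (E.pt u))) = true := fun u hu e => by
    rw [← hZ, ← Perm.mul_apply, ← hW, Perm.mul_apply, hY.apply_pt hu, e]; exact Nat.beq_refl _
  simp only [candCheck, allLt_iff, Bool.or_eq_true, Bool.not_eq_true', force_eq] at h
  have h2 := (((h _ (E.idx_lt _)).resolve_left (by rw [h1 a ha ha']; simp)) _
    (E.idx_lt _)).resolve_left (by rw [h1 b hb hb']; simp) _ (E.idx_lt (W (E.pt c))) _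
      (E.idx_lt (W (E.pt d)))
  rcases h2.resolve_left (by rw [hflt _ h0]; simp) with h3 | h3
  · exact ⟨_, mem_of_subL h3 _ List.mem_cons_self, h0.1⟩
  · exfalso
    rw [← Bool.not_eq_true, allL_iff] at h3
    refine h3 fun g hg' => ?_
    obtain ⟨g', h4, h5⟩ := InH.slp hn prog (L := _ :: gens) (fun u hu => by
      rcases List.mem_cons.mp hu with rfl | hu
      exacts [⟨W, hK, h0.1⟩, hg u hu]) g hg'
    exact ((nrep_powL hn fs h5).eq_iff (NRep.one hn)).mpr
      (orderOf_dvd_iff_pow_eq_one.mp ((K.orderOf_dvd_natCard h4).trans hbad))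

theorem equiv_of_lifts {G : Type*} [Group G] [Finite G] (φ : G →* Perm α)
    (hφ : Function.Injective φ) {M : Subgroup (Perm GolayPt)} (hc : Nat.card G = Nat.card M) {ι : ℕ}
    (hι : labOK n ι = true)
    (hM : ∀ m ∈ M, (∀ i, i < n → m (Golay.pt (app 5 ι i)) = Golay.pt (app 5 ι i)) → m = 1)
    {S : Set G} (hS : closure S = ⊤)
    (hl : ∀ g ∈ S, ∃ c m, Rep E k c (φ g) ∧ Golay.I M m ∧ liftOK k n ι c m = true) :
    Nonempty (G ≃* M) := by
  simp only [labOK, allLt_iff, Bool.and_eq_true, Nat.blt_eq, Bool.or_eq_true, Bool.not_eq_true',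
    Nat.beq_eq] at hι
  let j : α → GolayPt := fun a => Golay.pt (app 5 ι (E.idx a))
  have hj : Function.Injective j := fun a b h => by
    have h1 := congrArg Golay.idx h
    simp only [j] at h1
    rw [Golay.idx_pt (hι _ (E.idx_lt a)).1, Golay.idx_pt (hι _ (E.idx_lt b)).1] at h1
    refine E.idx_inj (((hι _ (E.idx_lt a)).2 _ (E.idx_lt b)).resolve_right ?_)
    rw [h1, Nat.beq_refl]; simp
  let Γ : Subgroup (G × M) :=
    { carrier := {z | ∀ a, z.2.1 (j a) = j (φ z.1 a)}
      one_mem' := fun a => by simp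
      mul_mem' := fun {u v} hu hv a => by
        simp only [Prod.snd_mul, coe_mul, Perm.mul_apply, Prod.fst_mul, map_mul]
        rw [hv, hu]
      inv_mem' := fun {u} hu a => by
        simp only [Prod.snd_inv, coe_inv, Prod.fst_inv, map_inv]
        rw [Perm.inv_eq_iff_eq, hu]; simp }
  let f1 : Γ →* G := (MonoidHom.fst G M).comp Γ.subtype
  let f2 : Γ →* M := (MonoidHom.snd G M).comp Γ.subtype
  have h1 : Function.Bijective f1 := by
    constructor
    · rw [injective_iff_map_eq_one]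
      rintro ⟨⟨g, m⟩, hz⟩ (rfl : g = 1)
      refine Subtype.ext (Prod.ext rfl (Subtype.ext (hM _ m.2 fun i hi => ?_)))
      have := hz (E.pt i)
      simp only [j, map_one, Perm.one_apply, E.idx_pt i hi] at this
      exact this
    · rw [← MonoidHom.range_eq_top, eq_top_iff, ← hS, closure_le]
      intro g hg
      obtain ⟨c, m, h2, ⟨m', h3, h4⟩, h5⟩ := hl g hg
      refine ⟨⟨(g, ⟨m', h3⟩), fun a => ?_⟩, rfl⟩
      simp only [j]
      rw [Golay.R.apply_pt h4 (hι _ (E.idx_lt a)).1, h2,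
        Nat.eq_of_beq_eq_true ((allLt_iff _ _).mp h5 _ (E.idx_lt a))]
  have h2 : Function.Injective f2 := by
    rw [injective_iff_map_eq_one]
    rintro ⟨⟨g, m⟩, hz⟩ (rfl : m = 1)
    refine Subtype.ext (Prod.ext (hφ ?_) rfl)
    ext a
    simpa using (hj (hz a)).symm
  exact ⟨(MulEquiv.ofBijective f1 h1).symm.trans (MulEquiv.ofBijective f2
    ((Nat.bijective_iff_injective_and_card _).mpr
      ⟨h2, by rw [← hc, Nat.card_eq_of_bijective f1 h1]⟩))⟩

open Golay in
theorem eq_one_of_fix_lab {ι F : ℕ} (h1 : labOK 12 ι = true)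
    (h2 : allLt 12 (fun i => tb 16436384 (app 5 ι i)) = true) (m : Perm GolayPt)
    (hm : m ∈ stabG [340831] F) (h : ∀ i, i < 12 → m (pt (app 5 ι i)) = pt (app 5 ι i)) :
    m = 1 := by
  simp only [labOK, allLt_iff, Bool.and_eq_true, Nat.blt_eq, Bool.or_eq_true, Bool.not_eq_true',
    Nat.beq_eq, tb_eq] at h1 h2
  have h3 : fs 16436384 = (fs 340831)ᶜ := by
    ext a; simp only [Finset.mem_compl, mem_fs]; revert a; decide +kernel
  refine eq_one_of_fix_five (d := fs 16436384)
    ⟨fs_mem_of_isCw (by decide +kernel), by rw [card_fs]; decide +kernel⟩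
    (fun i => pt (app 5 ι i)) (fun i j e => ?_) (fun i => ?_) hm.1 ?_ fun i => h i (by omega)
  · have h4 := congrArg idx e
    simp only at h4
    rw [idx_pt (h1 i (by omega)).1, idx_pt (h1 j (by omega)).1] at h4
    refine Fin.ext (((h1 i (by omega)).2 j (by omega)).resolve_right ?_)
    rw [h4, Nat.beq_refl]; simp
  · rw [mem_fs, idx_pt (h1 i (by omega)).1]; exact h2 i (by omega)
  · rw [h3, smul_compl_perm, inv_iff_smul.mp (hm.2.1 _ List.mem_cons_self)]

/-- the codes `cs` on twelve points lift to the codes `ms` in the stabiliser of the dodecad -/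
def lift12 (F ι : ℕ) (cs : List (ℕ × ℕ)) : Bool :=
  labOK 12 ι && (allLt 12 (fun i => tb 16436384 (app 5 ι i)) && allL cs fun c =>
    Golay.isM24 c.2 && (Golay.respects [340831] F c.2 && liftOK 4 12 ι c.1 c.2))

theorem equiv_of_lift12 {G : Type*} [Group G] [Finite G] {E : Enc α 12} (φ : G →* Perm α)
    (hφ : Function.Injective φ) {F ι : ℕ} (hc : Nat.card G = Nat.card (Golay.stabG [340831] F))
    {cs : List (ℕ × ℕ)} (h : lift12 F ι cs = true) {S : Set G} (hS : closure S = ⊤)
    (hl : ∀ g ∈ S, ∃ c ∈ cs, Rep E 4 c.1 (φ g)) : Nonempty (G ≃* Golay.stabG [340831] F) := by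
  simp only [lift12, Bool.and_eq_true, allL_iff] at h
  refine equiv_of_lifts (E := E) (k := 4) φ hφ hc h.1 (eq_one_of_fix_lab h.1 h.2.1) hS fun g hg => ?_
  obtain ⟨c, h1, h2⟩ := hl g hg
  exact ⟨c.1, c.2, h2, Golay.I_stabG (Golay.I_M24 (h.2.2 c h1).1) (h.2.2 c h1).2.1,
    (h.2.2 c h1).2.2⟩

end Cfsg.Lib.OC
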