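import Cfsg.Agent.Lib.OrderChar.Ident

/-!
A simple group of order 7920 is isomorphic to the Mathieu group `M11`.
-/

set_option autoImplicit false

namespace Cfsg.Lib.OC.M11

open Subgroup Finset PC MulAction

variable {G : Type*} [Group G] [Finite G] [IsSimpleGroup G] (hc : Nat.card G = 7920)
include hc

theorem nc : ¬ IsMulCommutative G := sm_not_comm_of_not_prime (by rw [hc]; norm_num)

theorem perf : commutator G = ⊤ := sm_commutator_eq_top (nc hc)

omit [IsSimpleGroup G] in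
theorem hi11 {x : G} (hx : orderOf x = 11) : ¬ 11 ∣ (zpowers x).index :=
  not_dvd_index_zpowers hx (by rw [hc]; norm_num)

omit [IsSimpleGroup G] in
theorem hi5 {x : G} (hx : orderOf x = 5) : ¬ 5 ∣ (zpowers x).index :=
  not_dvd_index_zpowers hx (by rw [hc]; norm_num)

theorem step11 {x : G} (hx : orderOf x = 11) :
    Nat.card (centralizer ({x} : Set G)) = 11 ∧ Nat.card (d1E hx) = 5 ∧
      (centralizer ({x} : Set G)).index = 720 ∧
      Nat.card (normalizer (zpowers x : Set G)) = 55 := by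
  have := Fintype.ofFinite G
  have hi := hi11 hc hx
  obtain ⟨n, e, v, h1, h2, h3, h4, h5, h6, -, h8, h9, h10⟩ := d1_numeric (nc hc) hx hi
  obtain ⟨D⟩ := d1_nonempty_data hx hi
  have h11 : n * e * v = 720 := by rw [hc] at h1; linarith
  have key : ∀ n ∈ Nat.divisors 720, ∀ e ∈ Nat.divisors 10, n % 11 = 1 → n ≠ 1 → e ≠ 1 →
      n * e ∣ 720 → (n = 12 ∧ (e = 2 ∨ e = 5 ∨ e = 10)) ∨ (n = 45 ∧ e = 2) ∨ (n = 144 ∧ e = 5) := by
    decide +kernel
  have hQ : 2 ∣ v → ∀ χ ∈ d1B0 11 G, χ ≠ triv G → decide (22 < irrDeg χ) = true :=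
    fun h χ hχ h0 => decide_eq_true (two_mul_lt_of_commute hx hi (perf hc) (Or.inl hχ) h0
      (by norm_num) (h8 ▸ h.mul_left 11))
  rcases key n (Nat.mem_divisors.mpr ⟨Dvd.intro _ (by rw [← h11, mul_assoc]), by norm_num⟩) e
    (Nat.mem_divisors.mpr ⟨h4, by norm_num⟩) h2 h3 h5 (Dvd.intro _ h11) with
    ⟨rfl, rfl | rfl | rfl⟩ | ⟨rfl, rfl⟩ | ⟨rfl, rfl⟩
  · simpa using D.exists_sol hi (t := 5) (B := 88) (fun d => decide (22 < d)) [] h9 hc h6 rfl
      (by norm_num) (hQ (by omega)) (by decide +kernel)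
  · simpa using D.exists_sol hi (t := 2) (B := 88) (fun d => decide (22 < d)) [] h9 hc h6 rfl
      (by norm_num) (hQ (by omega)) (by decide +kernel)
  · simpa using D.exists_sol hi (t := 1) (B := 88) (fun d => decide (22 < d)) [] h9 hc h6 rfl
      (by norm_num) (hQ (by omega)) (by decide +kernel)
  · simpa using D.exists_sol hi (t := 5) (B := 88) (fun d => decide (22 < d)) [] h9 hc h6 rfl
      (by norm_num) (hQ (by omega)) (by decide +kernel)
  · obtain rfl : v = 1 := by omega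
    exact ⟨h8, h6, h9, h10⟩

theorem block11 [Fintype G] {x : G} {hx : orderOf x = 11} (D : D1Data hx (d1B0 11 G)) :
    ∃ a b c d, D.IsList [a, b, c, d] ∧ irrDeg a = 10 ∧
      (([a, b, c, d].map D.ty = [(-1, 10), (-1, 10), (-1, 10), (1, 45)]) ∨ irrDeg d = 12) := by
  obtain ⟨-, h1, h2, -⟩ := step11 hc hx
  obtain ⟨s, h3, h4⟩ := D.exists_sol (hi11 hc hx) (t := 2) (B := 88) (fun d => decide (1 < d))
    [[(-1, 10), (-1, 10), (-1, 10), (1, 45)], [(-1, 10), (-1, 10), (1, 12), (1, 12)]] h2 hc h1 rfl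
    (by norm_num) (fun χ _ h => decide_eq_true (one_lt_irrDeg (perf hc) h)) (by decide +kernel)
  obtain _ | ⟨a, _ | ⟨b, _ | ⟨c, _ | ⟨d, _ | _⟩⟩⟩⟩ := s <;> simp [D1Data.ty] at h4
  exact ⟨a, b, c, d, h3, by tauto, by simp [D1Data.ty]; tauto⟩

theorem step5 {y : G} (hy : orderOf y = 5) :
    Nat.card (centralizer ({y} : Set G)) = 5 ∧ Nat.card (d1E hy) = 4 ∧
      (centralizer ({y} : Set G)).index = 1584 ∧
      Nat.card (normalizer (zpowers y : Set G)) = 20 := by
  have := Fintype.ofFinite G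
  obtain ⟨x, hx⟩ := exists_prime_orderOf_dvd_card' (G := G) 11 (by rw [hc]; norm_num)
  obtain ⟨D⟩ := d1_nonempty_data hx (hi11 hc hx)
  obtain ⟨a, -, -, -, -, ha, -⟩ := block11 hc D
  obtain ⟨n, e, v, h1, h2, -, h4, h5, h6, -, h8, h9, h10⟩ := d1_numeric (nc hc) hy (hi5 hc hy)
  have h11 : ¬ 11 ∣ 5 * v := h8 ▸ not_dvd_card_centralizer hx (hi11 hc hx)
    (by rw [hy, (step11 hc hx).1]; norm_num)
  have h12 : ¬ 2 ∣ 5 * v := fun h => by
    have := two_mul_lt_of_commute hy (hi5 hc hy) (perf hc) (χ := a) (Or.inr (by rw [ha]; norm_num))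
      (ne_triv_of_deg (by omega)) (by norm_num) (h8 ▸ h)
    omega
  have h13 : n * e * v = 1584 := by rw [hc] at h1; linarith
  have key : ∀ v ∈ Nat.divisors 1584, ∀ e ∈ Nat.divisors 4, ¬ 11 ∣ 5 * v → ¬ 2 ∣ 5 * v → e ≠ 1 →
      1584 / (e * v) % 5 = 1 → e = 4 ∧ v = 1 := by decide +kernel
  obtain ⟨rfl, rfl⟩ := key v (Nat.mem_divisors.mpr ⟨Dvd.intro_left _ h13, by norm_num⟩) e
    (Nat.mem_divisors.mpr ⟨h4, by norm_num⟩) h11 h12 h5 (by
      rw [← h13, mul_assoc, Nat.mul_div_cancel _ (Nat.pos_of_ne_zero fun h => by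
        rw [mul_assoc, h] at h13; omega), h2])
  exact ⟨h8, h6, by omega, h10⟩

theorem exists_chi {y t : G} (hy : orderOf y = 5) (ht : orderOf t = 2)
    (hr : t * y * t⁻¹ = y ^ 4) : ∃ χ : IrrCharacter G, irrDeg χ = 11 ∧ χ.1 t = 3 ∧
      ∀ g, 5 ∣ orderOf g → χ.1 g = 1 := by
  have := Fintype.ofFinite G
  obtain ⟨x, hx⟩ := exists_prime_orderOf_dvd_card' (G := G) 11 (by rw [hc]; norm_num)
  have hi := hi11 hc hx
  have hi' := hi5 hc hy
  obtain ⟨D⟩ := d1_nonempty_data hx hi
  obtain ⟨x1, x2, -, -⟩ := step11 hc hx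
  obtain ⟨y1, y2, y3, -⟩ := step5 hc hy
  obtain ⟨s, F⟩ := exists_full hy hi' y2
  obtain ⟨a, b, c, d, hL, -, h | h⟩ := block11 hc D
  swap
  · exact (F.not_mem hy h (by decide) (by decide)
      (mem_B0_of_not_dvd hy hi' y1 (by rw [h]; decide))).elim
  have h1 := hL.degree
  rw [h] at h1
  have h2 : D.d = 16 := by rcases D.δ_eq with e | e <;> rw [e] at h1 <;> simp at h1 <;> omega
  have h3 : Nat.card ((ZMod 11)ˣ ⧸ d1E hx) = 2 := by
    have := card_d1E_mul_index hx
    rw [x2] at this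
    change (d1E hx).index = 2
    omega
  obtain ⟨k, hk, hk'⟩ := (Nat.card_eq_two_iff' 1).mp h3
  have h4 : ∀ j, irrDeg (D.θ j) = 16 := fun j => h2 ▸ D.irrDeg_θ j
  have h5 : ∀ j, D.θ j ∈ d1B0 5 G := fun j => mem_B0_of_not_dvd hy hi' y1 (by rw [h4]; decide)
  have h6 : ∀ j, s (D.θ j) = 1 := fun j => F.sign_eq hy (h5 j) (h4 j) (Or.inl rfl) (by decide)
  simp only [D1Data.ty, List.map_cons, List.map_nil, List.cons.injEq, Prod.mk.injEq] at h
  obtain ⟨l, h7, h8, h9⟩ := F.exists_sol hy [] [triv G, D.θ 1, D.θ k] (by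
      simp [(D.θ_ne_one _).symm, D.θ_inj.ne hk.symm, triv]) (by simp) (by simp [triv_mem_B0, h5])
    (N1 := 7407) (S := 33) (m := 2) (B := 86) (fun d => d % 11 == 0) [[(-1, 44), (1, 11)]] y3
    (by simp [F.one, h4, h6, show irrDeg (triv G) = 1 from irrDeg_one])
    (by rw [hc]; simp [h4, show irrDeg (triv G) = 1 from irrDeg_one]) rfl (by norm_num)
    (fun χ hχ h0 => by
      rw [beq_iff_eq, ← Nat.dvd_iff_mod_eq_zero]
      by_contra hn
      rcases (D.mem_iff χ).mp (mem_B0_of_not_dvd hx hi x1 hn) with e | ⟨j, rfl⟩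
      · have := (hL.mem χ).mpr ⟨e, by rintro rfl; simp at h0⟩
        simp only [List.mem_cons, List.not_mem_nil, or_false] at this
        rcases this with rfl | rfl | rfl | rfl
        exacts [F.not_mem hy h.1.2 (by decide) (by decide) hχ,
          F.not_mem hy h.2.1.2 (by decide) (by decide) hχ,
          F.not_mem hy h.2.2.1.2 (by decide) (by decide) hχ,
          F.not_mem hy h.2.2.2.1.2 (by decide) (by decide) hχ]
      · by_cases e : j = 1
        · simp [e] at h0
        · simp [hk' j e] at h0) (by decide +kernel)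
  obtain _ | ⟨φ, _ | ⟨χ, _ | _⟩⟩ := l <;> simp at h9
  obtain ⟨⟨φ1, φ2⟩, χ1, χ2⟩ := h9
  have ht5 : ¬ 5 ∣ orderOf t := by rw [ht]; decide
  obtain ⟨u, u1, u2, u3, u4, -⟩ := exists_invol_val (perf hc) (χ := χ) (ne_triv_of_deg (by omega)) ht
  obtain ⟨v, v1, -⟩ := exists_invol_val (perf hc) (χ := φ) (ne_triv_of_deg (by omega)) ht
  obtain ⟨p, p1, p2, p3, p4, -⟩ := exists_invol_val (perf hc) (D.θ_ne_one 1) ht
  have p1' := (D.θ_reg k (g := t) (by rw [ht]; decide)).trans p1
  have e1 := F.reg t ht5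
  have e2 := F.sum_cmN hy hi' t t (mem_zpowers y) (d1_ne_one hy)
  have e3 := list_norm_le h7 t
  rw [Full.sum_list h7 h8] at e1 e2
  rw [cmV_bot (d1V_eq_bot hy hi' y1), cmN_invol hy (by norm_num) (centralizer_eq_zpowers hy y1)
    (ht ▸ pow_orderOf_eq_one t) hr, d1V_eq_bot hy hi' y1, card_bot, hc] at e2
  have c1 : ¬ 5 ∣ _ := not_dvd_card_centralizer hy hi' (y := t) (by rw [ht, y1]; decide)
  have c2 : ¬ 11 ∣ _ := not_dvd_card_centralizer hx hi (y := t) (by rw [ht, x1]; decide)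
  have c3 := hc ▸ card_subgroup_dvd_card (centralizer ({t} : Set G))
  generalize Nat.card (centralizer ({t} : Set G)) = C at e2 e3 c1 c2 c3
  simp [F.one, h4, h6, φ1, φ2, χ1, χ2, u1, v1, p1, p1',
    show irrDeg (triv G) = 1 from irrDeg_one] at e1 e2 e3
  have f1 : v = 1 + u + 2 * p := by
    have : (v : ℂ) = (1 + u + 2 * p : ℤ) := by push_cast; linear_combination -e1
    exact_mod_cast this
  have f2 : (C : ℤ) ^ 2 * 5 = 7920 + 720 * u ^ 2 + 990 * p ^ 2 - 180 * v ^ 2 := by
    have : (((C : ℤ) ^ 2 * 5 : ℤ) : ℂ) = (7920 + 720 * u ^ 2 + 990 * p ^ 2 - 180 * v ^ 2 : ℤ) := by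
      push_cast; linear_combination e2
    exact_mod_cast this
  have f3 : 1 + (p ^ 2 + (p ^ 2 + (v ^ 2 + u ^ 2))) ≤ (C : ℤ) := by exact_mod_cast e3
  have key : ∀ u ∈ [-9, -5, -1, 3, 7], ∀ p ∈ [-12, -8, -4, 0, 4, 8, 12], ∀ C ∈ Nat.divisors 7920,
      ¬ 5 ∣ C → ¬ 11 ∣ C → (C : ℤ) ^ 2 * 5 = 7920 + 720 * u ^ 2 + 990 * p ^ 2 -
        180 * (1 + u + 2 * p) ^ 2 → 1 + (p ^ 2 + (p ^ 2 + ((1 + u + 2 * p) ^ 2 + u ^ 2))) ≤ (C : ℤ) →
      u = 3 := by decide +kernel
  rw [χ2] at u2 u3 u4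
  rw [h4] at p2 p3 p4
  obtain rfl := key u (by simp; omega) p (by simp; omega) C
    (Nat.mem_divisors.mpr ⟨c3, by norm_num⟩) c1 c2 (f1 ▸ f2) (f1 ▸ f3)
  exact ⟨χ, χ2, by simpa using u1, fun g hg => by
    rw [F.val χ ((h8 χ).mp (by simp)) g hg, χ1]; simp⟩

omit hc in
/-- the ten possible generators with labelling and lifts -/
def lifts : List (ℕ × ℕ × ℕ × ℕ) :=
  [(1689321632811, 265386357370999237, 928907155459329105379073267909141696, 944173471447925718327518329453087136),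
   (3458681315691, 265386357370999237, 928907155459329105379073267909141696, 816141942280344669561917366774339872),
   (10325464351611, 265386357370999237, 928907155459329105379073267909141696, 895197550710223144346428208489547904),
   (5100561458571, 265386357370999237, 928907155459329105379073267909141696, 430295919242053574408677882180215296),
   (5983770651051, 265386357370999237, 928907155459329105379073267909141696, 601726785850430221399503313545989152),
   (4963126900011, 268679602929129829, 653355565331133260893500470802396672, 895197550710223144346428208489547904),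
   (1277005702251, 268679602929129829, 653355565331133260893500470802396672, 601726785850430221399503313545989152),
   (3733561966971, 268679602929129829, 653355565331133260893500470802396672, 430295919242053574408677882180215296),
   (6189922871691, 268679602929129829, 653355565331133260893500470802396672, 816141942280344669561917366774339872),
   (10394181968811, 268679602929129829, 653355565331133260893500470802396672, 944173471447925718327518329453087136)]

theorem equiv : Nonempty (G ≃* Golay.stabG [340831] 1) := by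
  obtain ⟨x, hx⟩ := exists_prime_orderOf_dvd_card' (G := G) 11 (by rw [hc]; norm_num)
  obtain ⟨-, x2, -, x4⟩ := step11 hc hx
  obtain ⟨y, hy1, hy2⟩ := exists_normalizing hx (a := 11) (q := 5)
    (isConj_pow_of_pow hx x2 (r := 3) (by norm_num)) (by norm_num) (by rw [x4])
  have hy : orderOf y = 5 := orderOf_eq_prime hy2 (ne_one_of_conj hy1 (by rw [hx]; decide))
  obtain ⟨-, y2, -, y4⟩ := step5 hc hy
  obtain ⟨w, hw1, hw2⟩ := exists_normalizing hy (a := 5) (q := 4)
    (isConj_pow_of_pow hy y2 (r := 2) (by norm_num)) (by norm_num) (by rw [y4])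
  have ht1 : w ^ 2 * y * (w ^ 2)⁻¹ = y ^ 4 := by simpa using conj_pow_pow hw1 2 1
  have ht : orderOf (w ^ 2) = 2 :=
    orderOf_eq_prime (by rw [← pow_mul, hw2]) (ne_one_of_conj ht1 (by rw [hy]; decide))
  obtain ⟨χ, χ1, χ2, χ3⟩ := exists_chi hc hy ht ht1
  have χ4 : ∀ i, 0 < i → i < 5 → χ.1 (y ^ i) = 1 := fun i h1 h2 =>
    χ3 _ (orderOf_pow_eq hy h1 h2).symm.dvd
  obtain ⟨H, hH⟩ : ∃ H, H = (zpowers x ⊔ zpowers y) ⊔ (zpowers y ⊔ zpowers (w ^ 2)) := ⟨_, rfl⟩
  have h1 : H ≠ ⊤ := by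
    refine hH ▸ sup_ne_top_of_avg χ.2 (ne_one_of_ne_triv (ne_triv_of_deg (by omega)))
      (D := zpowers y) (a := 1) (b := 3) (d := 3) le_sup_right le_sup_left ?_ ?_ ?_ (by norm_num)
    · rw [avg_frobenius hx hy hy1 (by norm_num) (by decide) χ.2.isClassFunction (c := 0)
        fun i h1 h2 => apply_eq_zero_of_dvd (p := 11) (by rw [hc]; norm_num) χ1.symm.dvd
          (orderOf_pow_eq hx h1 h2).symm.dvd,
        sum_congr rfl fun j hj => χ4 _ j.succ_pos (by have := mem_range.mp hj; omega),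
        coe_irrDeg, χ1]
      norm_num
    · rw [avg_frobenius hy ht ht1 (by norm_num) (by decide) χ.2.isClassFunction χ4, coe_irrDeg, χ1]
      norm_num [χ2]
    · rw [avg_zpowers hy χ4, coe_irrDeg, χ1]; norm_num
  have hxH : x ∈ H := hH ▸ mem_sup_left (mem_sup_left (mem_zpowers x))
  have hyH : y ∈ H := hH ▸ mem_sup_left (mem_sup_right (mem_zpowers y))
  have h2 : Nat.card H = 660 := by
    obtain ⟨n, h3, h4⟩ := card_eq_normalizer_mul hx (hi11 hc hx) H hxH
    have h5 : zpowers x ⊔ zpowers y = normalizer (zpowers x : Set G) :=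
      eq_of_le_of_card_ge (sup_le le_normalizer (zpowers_le.mpr (d1_mem_normalizer hx
        (hy1 ▸ pow_mem (mem_zpowers x) 3)))) (by rw [x4, (metacyclic hx hy hy1 (by norm_num)).1])
    rw [inf_eq_left.mpr (h5 ▸ hH ▸ le_sup_left), x4] at h4
    have h6 := hc ▸ card_subgroup_dvd_card H
    have h7 := ht ▸ H.orderOf_dvd_natCard (hH ▸ mem_sup_right (mem_sup_right (mem_zpowers (w ^ 2))))
    have h8 : Nat.card H ≠ 7920 := fun e => h1 (eq_top_of_card_eq _ (e.trans hc.symm))
    have key : ∀ n ∈ Nat.divisors 144, n % 11 = 1 → 2 ∣ n * 55 → n * 55 ≠ 7920 → n = 12 := by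
      decide +kernel
    rw [h4] at h6 h7 h8 ⊢
    rw [key n (Nat.mem_divisors.mpr ⟨Nat.dvd_of_mul_dvd_mul_right (by norm_num : 0 < 55) h6,
      by norm_num⟩) h3 h7 h8]
  have h3 : H.index = 12 := by have := H.index_mul_card; rw [h2, hc] at this; omega
  have hf := sm_toPermHom_quotient_injective h1
  have h4 : ∀ g : G, g • ((1 : G) : G ⧸ H) = (1 : G) ↔ g ∈ H := fun g => by
    rw [← mem_stabilizer_iff, stabilizer_quotient]
  obtain ⟨E, hE, hX, hY⟩ := exists_label (Ω := G ⧸ H) (p := 11) h3 hf hx hy hy1 (by norm_num)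
    ((h4 x).mpr hxH) ((h4 y).mpr hyH) (k := 4) (by norm_num)
  have hZ := hY.powc (by norm_num) 2
  rw [show cAff 4 11 1 1 = 194242167522081 by decide +kernel] at hX
  rw [show powc 4 (11 + 1) (cAff 4 11 3 0) 2 = 196016033978256 by decide +kernel] at hZ
  rw [show cAff 4 11 3 0 = 202665132922416 by decide +kernel] at hY
  have h5 : toPermHom G (G ⧸ H) w * toPermHom G (G ⧸ H) y =
      toPermHom G (G ⧸ H) y ^ 2 * toPermHom G (G ⧸ H) w := by
    rw [← map_pow, ← map_mul, ← map_mul, ← hw1]; simp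
  have h6 : ∀ c, NRep E 4 c (toPermHom G (G ⧸ H) w) →
      Nat.beq (powc 4 12 c 4) (idc 4 12) = true ∧ (app 4 c 11 = 11 ↔ w ∈ H) := fun c h => by
    refine ⟨((h.1.npowc (by norm_num) 4).eq_iff (NRep.one (by norm_num))).mpr
      (by rw [← map_pow, hw2, map_one]), ?_⟩
    rw [← h4, ← hE]
    exact rep_fix_iff h.1 (by norm_num)
  have h7 : ∀ K : Subgroup G, x ∈ K → y ∈ K → ∀ g ∈ [194242167522081, 202665132922416],
      InH E 4 (K.map (toPermHom G (G ⧸ H))) g := fun K h8 h9 g hg => by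
    simp only [List.mem_cons, List.not_mem_nil, or_false] at hg
    rcases hg with rfl | rfl
    exacts [⟨_, mem_map_of_mem _ h8, hX⟩, ⟨_, mem_map_of_mem _ h9, hY⟩]
  by_cases hw : w ∈ H
  · simpa using exists_good (by norm_num) hY hZ h5 (tJ := 3930809) (tE := 3453710766080) (a := 11)
      (b := 0) (c := 1) (d := 2) (by decide +kernel) (by norm_num) (by norm_num) (by norm_num)
      (by norm_num) (by decide +kernel) (by decide +kernel)
      (flt := fun c => Nat.beq (powc 4 12 c 4) (idc 4 12) && Nat.beq (app 4 c 11) 11)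
      (fs := [2, 2, 3, 5, 11]) (good := []) (prog := [(0, 1), (0, 3), (0, 1), (0, 1), (0, 6)])
      (by decide +kernel) _ (mem_map_of_mem _ hw) (h7 H hxH hyH)
      (by rw [card_map_of_injective hf, h2]; norm_num)
      (fun c h => by rw [(h6 c h).1, (h6 c h).2.mpr hw]; rfl)
  obtain ⟨c, h8, h9⟩ := exists_good (by norm_num) hY hZ h5 (tJ := 3930809) (tE := 3453710766080)
    (a := 11) (b := 0) (c := 1) (d := 2) (by decide +kernel) (by norm_num) (by norm_num)
    (by norm_num) (by norm_num) (by decide +kernel) (by decide +kernel)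
    (flt := fun c => Nat.beq (powc 4 12 c 4) (idc 4 12) && !(Nat.beq (app 4 c 11) 11))
    (fs := [2, 2, 2, 2, 3, 3, 5, 11]) (good := lifts.map Prod.fst)
    (prog := [(0, 1), (0, 2), (0, 1), (0, 2), (0, 4), (0, 4), (1, 8), (0, 1), (4, 10)])
    (by decide +kernel) _ (mem_map_of_mem _ (mem_top w)) (h7 ⊤ (mem_top x) (mem_top y))
    (by rw [card_map_of_injective hf, card_top, hc]; norm_num)
    (fun c h => by
      rw [(h6 c h).1, Bool.true_and, Bool.not_eq_true', ← Bool.not_eq_true, Nat.beq_eq, (h6 c h).2]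
      exact hw)
  obtain ⟨l, h10, rfl⟩ := List.mem_map.mp h8
  have h11 : allL lifts (fun l => lift12 1 l.2.1 [(194242167522081, l.2.2.1),
      (202665132922416, 856021201178673646070519388127369728), (l.1, l.2.2.2)]) = true := by
    decide +kernel
  have hx' : x ∈ closure {x, y, w} := subset_closure (by simp)
  have hy' : y ∈ closure {x, y, w} := subset_closure (by simp)
  have hw' : w ∈ closure {x, y, w} := subset_closure (by simp)
  refine equiv_of_lift12 (E := E) _ hf (hc.trans Golay.card_stabG_dodecad_1.symm)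
    ((allL_iff _ _).mp h11 l h10) (S := {x, y, w}) (eq_top_of_lt (H := H)
      (lt_of_le_of_ne ?_ fun e => hw (e ▸ hw')) ?_) ?_
  · rw [hH]
    simp only [sup_le_iff, zpowers_le]
    exact ⟨⟨hx', hy'⟩, hy', pow_mem hw' 2⟩
  · rw [h3, hc]; decide +kernel
  · rintro g (rfl | rfl | rfl)
    exacts [⟨_, .head _, hX⟩, ⟨_, .tail _ (.head _), hY⟩, ⟨_, .tail _ (.tail _ (.head _)), h9⟩]

end Cfsg.Lib.OC.M11
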