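import Cfsg.Agent.Lib.OrderChar.M12c
import Cfsg.Agent.Lib.OrderChar.Ident

/-!
A simple group of order 95040 is isomorphic to the Mathieu group `M12`.
-/

set_option autoImplicit false

namespace Cfsg.Lib.OC.M12

open Subgroup Finset PC MulAction

/-- the two possible involutions with labelling and lifts -/
def lifts : List (ℕ × ℕ × ℕ) :=
  [(3887283479931, 265386357370999237, 928907155459329105379073267909141696),
   (4816159515531, 268679602929129829, 653355565331133260893500470802396672)]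

variable {G : Type*} [Group G] [Finite G] [IsSimpleGroup G] (hc : Nat.card G = 95040)
  {x y : G} (hx : orderOf x = 11) (hy : orderOf y = 5) (hr : y * x * y⁻¹ = x ^ 3)
include hc hx hy hr

theorem card_cases (K : Subgroup G) (h1 : x ∈ K) (h2 : y ∈ K) (h3 : 2 ∣ Nat.card K) :
    K = ⊤ ∨ K.index = 12 ∨ Nat.card K = 660 := by
  obtain ⟨n, h4, h5⟩ := card_eq_normalizer_mul hx (hi11 hc hx) K h1
  have h6 : zpowers x ⊔ zpowers y = normalizer (zpowers x : Set G) :=
    eq_of_le_of_card_ge (sup_le le_normalizer (zpowers_le.mpr (d1_mem_normalizer hx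
      (hr ▸ pow_mem (mem_zpowers x) 3)))) (by
        rw [(step11 hc hx).2.2.2, (metacyclic hx hy hr (by norm_num)).1])
  rw [inf_eq_left.mpr (h6 ▸ sup_le (zpowers_le.mpr h1) (zpowers_le.mpr h2)),
    (step11 hc hx).2.2.2] at h5
  have h7 := hc ▸ card_subgroup_dvd_card K
  have h8 := K.index_mul_card
  have key : ∀ n ∈ Nat.divisors 1728, n % 11 = 1 → 2 ∣ n * 55 → n = 1728 ∨ n = 144 ∨ n = 12 := by
    decide +kernel
  rw [h5] at h3 h7
  rw [hc, h5] at h8
  rcases key n (Nat.mem_divisors.mpr ⟨Nat.dvd_of_mul_dvd_mul_right (by norm_num : 0 < 55) h7,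
    by norm_num⟩) h4 h3 with rfl | rfl | rfl
  exacts [Or.inl (eq_top_of_card_eq _ (h5.trans hc.symm)), Or.inr (Or.inl (by omega)),
    Or.inr (Or.inr h5)]

theorem exists_H : ∃ H : Subgroup G, H.index = 12 ∧ x ∈ H ∧ y ∈ H := by
  have := Fintype.ofFinite G
  obtain ⟨D⟩ := d1_nonempty_data hx (hi11 hc hx)
  obtain ⟨s, hL, hs⟩ := block11 hc D
  obtain ⟨w, χ, n, hw1, hw, hN, χ1, χ4, h1, h2⟩ := exists_chi hc hL hs hy
  obtain ⟨H, hH⟩ : ∃ H, H = (zpowers x ⊔ zpowers y) ⊔ (zpowers y ⊔ zpowers w) := ⟨_, rfl⟩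
  have hxH : x ∈ H := hH ▸ mem_sup_left (mem_sup_left (mem_zpowers x))
  have hyH : y ∈ H := hH ▸ mem_sup_left (mem_sup_right (mem_zpowers y))
  have hwH : w ∈ H := hH ▸ mem_sup_right (mem_sup_right (mem_zpowers w))
  refine ⟨H, ((card_cases hc hx hy hr H hxH hyH ((show 2 ∣ 4 by norm_num).trans
    (hw ▸ H.orderOf_dvd_natCard hwH))).resolve_left ?_).resolve_right fun h3 => ?_, hxH, hyH⟩
  · refine hH ▸ sup_ne_top_of_avg χ.2 (ne_one_of_ne_triv (ne_triv_of_deg (by omega)))
      (D := zpowers y) (a := 1) (b := n) (d := 3) le_sup_right le_sup_left ?_ h2 ?_ (by omega)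
    · rw [avg_frobenius hx hy hr (by norm_num) (by decide) χ.2.isClassFunction (c := 0)
        fun i h1 h2 => apply_eq_zero_of_dvd (p := 11) (by rw [hc]; norm_num) χ1.symm.dvd
          (orderOf_pow_eq hx h1 h2).symm.dvd,
        sum_congr rfl fun j hj => χ4 _ j.succ_pos (by have := mem_range.mp hj; omega),
        coe_irrDeg, χ1]
      norm_num
    · rw [avg_zpowers hy χ4, coe_irrDeg, χ1]; norm_num
  · obtain ⟨m, h4, h5⟩ := card_eq_normalizer_mul hy (hi5 hc hy) H hyH
    have h6 : Nat.card ↥(normalizer (zpowers y : Set G) ⊓ H) ∣ 40 := hN ▸ card_dvd_of_le inf_le_left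
    have h7 : 5 * 4 ∣ Nat.card ↥(normalizer (zpowers y : Set G) ⊓ H) :=
      (metacyclic hy hw hw1 (by norm_num)).1 ▸ card_dvd_of_le (le_inf (sup_le le_normalizer
        (zpowers_le.mpr (d1_mem_normalizer hy (hw1 ▸ pow_mem (mem_zpowers y) 2))))
        (hH ▸ le_sup_right))
    rw [h3] at h5
    generalize Nat.card ↥(normalizer (zpowers y : Set G) ⊓ H) = k at *
    have h8 := Nat.le_of_dvd (by norm_num) h6
    obtain rfl | rfl : k = 20 ∨ k = 40 := by
      have : k ≠ 0 := by rintro rfl; simp at h5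
      omega
    all_goals omega

theorem label {z : G} (hz : orderOf z = 2) (hzy : z * y = y * z) (H : Subgroup G)
    (h3 : H.index = 12) (hxH : x ∈ H) (hyH : y ∈ H) : z ∉ H ∧
    (∀ K : Subgroup G, x ∈ K → y ∈ K → z ∈ K → Nat.card K ≠ 660) ∧
    (closure {x, y, z} = ⊤ → Nonempty (G ≃* Golay.stabG [340831] 0)) := by
  have h1 : H ≠ ⊤ := by rintro rfl; simp at h3
  have hf := sm_toPermHom_quotient_injective h1
  have h4 : ∀ g : G, g • ((1 : G) : G ⧸ H) = (1 : G) ↔ g ∈ H := fun g => by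
    rw [← mem_stabilizer_iff, stabilizer_quotient]
  obtain ⟨E, hE, hX, hY⟩ := exists_label (Ω := G ⧸ H) (p := 11) h3 hf hx hy hr (by norm_num)
    ((h4 x).mpr hxH) ((h4 y).mpr hyH) (k := 4) (by norm_num)
  rw [show cAff 4 11 1 1 = 194242167522081 by decide +kernel] at hX
  rw [show cAff 4 11 3 0 = 202665132922416 by decide +kernel] at hY
  have h5 : toPermHom G (G ⧸ H) z * toPermHom G (G ⧸ H) y =
      toPermHom G (G ⧸ H) y * toPermHom G (G ⧸ H) z := by rw [← map_mul, ← map_mul, hzy]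
  have hz2 : z ^ 2 = 1 := hz ▸ pow_orderOf_eq_one z
  have h6 : ∀ c, NRep E 4 c (toPermHom G (G ⧸ H) z) →
      (Nat.beq (powc 4 12 c 2) (idc 4 12) && (!(Nat.beq c (idc 4 12)) &&
        !(Nat.beq (powc 4 12 (comp 4 12 c 194242167522081) 2) (idc 4 12)))) = true := fun c h => by
    simp only [Bool.and_eq_true, Bool.not_eq_true', ← Bool.not_eq_true]
    refine ⟨((h.1.npowc (by norm_num) 2).eq_iff (NRep.one (by norm_num))).mpr
      (by rw [← map_pow, hz2, map_one]), fun e => ?_, fun e => ?_⟩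
    · rw [h.eq_iff (NRep.one (by norm_num)), map_eq_one_iff _ hf] at e
      simp [e] at hz
    · rw [((h.1.comp hX).npowc (by norm_num) 2).eq_iff (NRep.one (by norm_num)), ← map_mul,
        ← map_pow, map_eq_one_iff _ hf] at e
      refine not_isConj_inv hx (by norm_num) (by rw [(step11 hc hx).2.1]; norm_num)
        (isConj_iff.mpr ⟨z, ?_⟩)
      rw [eq_inv_iff_mul_eq_one, inv_eq_of_mul_eq_one_right (pow_two z ▸ hz2 : z * z = 1), ← e]
      simp [pow_two, mul_assoc]
  have h7 : ∀ K : Subgroup G, x ∈ K → y ∈ K → ∀ g ∈ [194242167522081, 202665132922416],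
      InH E 4 (K.map (toPermHom G (G ⧸ H))) g := fun K h8 h9 g hg => by
    simp only [List.mem_cons, List.not_mem_nil, or_false] at hg
    rcases hg with rfl | rfl
    exacts [⟨_, mem_map_of_mem _ h8, hX⟩, ⟨_, mem_map_of_mem _ h9, hY⟩]
  obtain ⟨c, h8, h9⟩ := exists_good (by norm_num) hY hY h5 (tJ := 3930809) (tE := 3453710766080)
    (a := 11) (b := 0) (c := 1) (d := 2) (by decide +kernel) (by norm_num) (by norm_num)
    (by norm_num) (by norm_num) (by decide +kernel) (by decide +kernel)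
    (fs := [2, 2, 2, 2, 2, 2, 3, 3, 3, 5, 11]) (good := lifts.map Prod.fst)
    (prog := [(0, 2), (0, 2), (0, 4), (0, 5), (6, 6), (1, 4), (1, 7), (0, 1), (0, 1), (7, 7),
      (10, 6), (12, 3), (0, 3), (0, 5)])
    (by decide +kernel) _ (mem_map_of_mem _ (mem_top z)) (h7 ⊤ (mem_top x) (mem_top y))
    (by rw [card_map_of_injective hf, card_top, hc]; norm_num) h6
  obtain ⟨l, h10, rfl⟩ := List.mem_map.mp h8
  refine ⟨fun h => ?_, fun K k1 k2 k3 k4 => ?_, fun h => ?_⟩
  · have h11 := (rep_fix_iff h9 (i := 11) (by norm_num)).mpr (by rw [hE]; exact (h4 z).mpr h)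
    exact (by decide +kernel : ∀ l ∈ lifts, app 4 l.1 11 ≠ 11) l h10 h11
  · simpa using exists_good (by norm_num) hY hY h5 (tJ := 3930809) (tE := 3453710766080) (a := 11)
      (b := 0) (c := 1) (d := 2) (by decide +kernel) (by norm_num) (by norm_num) (by norm_num)
      (by norm_num) (by decide +kernel) (by decide +kernel) (fs := [2, 2, 3, 5, 11]) (good := [])
      (prog := [(0, 1), (0, 3), (0, 1), (0, 1), (0, 4), (0, 1)])
      (by decide +kernel) _ (mem_map_of_mem _ k3) (h7 K k1 k2)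
      (by rw [card_map_of_injective hf, k4]; norm_num) h6
  · have h11 : allL lifts (fun l => lift12 0 l.2.1 [(194242167522081, l.2.2),
        (202665132922416, 856021201178673646070519388127369728),
        (l.1, 944414435662770434248146303687599692)]) = true := by decide +kernel
    refine equiv_of_lift12 (E := E) _ hf (hc.trans Golay.card_stabG_dodecad_0.symm)
      ((allL_iff _ _).mp h11 l h10) h ?_
    rintro g (rfl | rfl | rfl)
    exacts [⟨_, .head _, hX⟩, ⟨_, .tail _ (.head _), hY⟩, ⟨_, .tail _ (.tail _ (.head _)), h9⟩]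

omit hx hy hr in
theorem equiv : Nonempty (G ≃* Golay.stabG [340831] 0) := by
  have := Fintype.ofFinite G
  obtain ⟨x, hx⟩ := exists_prime_orderOf_dvd_card' (G := G) 11 (by rw [hc]; norm_num)
  obtain ⟨-, x2, -, x4⟩ := step11 hc hx
  obtain ⟨y, hr, hy2⟩ := exists_normalizing hx (a := 11) (q := 5)
    (isConj_pow_of_pow hx x2 (r := 3) (by norm_num)) (by norm_num) (by rw [x4])
  have hy : orderOf y = 5 := orderOf_eq_prime hy2 (ne_one_of_conj hr (by rw [hx]; decide))
  obtain ⟨D⟩ := d1_nonempty_data hx (hi11 hc hx)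
  obtain ⟨s, hL, hs⟩ := block11 hc D
  obtain ⟨z, -, -, hz, z1, -⟩ := step5 hc hL hs hy
  have hzy := mem_centralizer_singleton_iff.mp (d1V_le z1)
  obtain ⟨H, h1, h2, h3⟩ := exists_H hc hx hy hr
  obtain ⟨-, h4, h5⟩ := label hc hx hy hr hz hzy H h1 h2 h3
  have hx' : x ∈ closure {x, y, z} := subset_closure (by simp)
  have hy' : y ∈ closure {x, y, z} := subset_closure (by simp)
  have hz' : z ∈ closure {x, y, z} := subset_closure (by simp)
  exact h5 (((card_cases hc hx hy hr _ hx' hy' (hz ▸ Subgroup.orderOf_dvd_natCard _ hz')).resolve_right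
    fun h => h.elim (fun h => (label hc hx hy hr hz hzy _ h hx' hy').1 hz') (h4 _ hx' hy' hz')))

end Cfsg.Lib.OC.M12
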