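import Cfsg.Agent.Lib.OrderChar.Tests

/-!
A simple group of order 95040: the principal `11`-block.
-/

set_option autoImplicit false

namespace Cfsg.Lib.OC.M12

open Subgroup Finset

/-- the possible degrees in the principal `11`-block -/
def sols : List (List (ℤ × ℕ)) :=
  [[(-1, 10), (1, 12), (1, 12), (1, 12)],
   [(-1, 32), (1, 12), (1, 12), (1, 12)],
   [(-1, 10), (1, 45), (1, 12), (1, 12)],
   [(-1, 54), (1, 45), (1, 12), (1, 12)],
   [(-1, 10), (-1, 10), (1, 12), (1, 12)],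
   [(-1, 32), (-1, 10), (1, 45), (1, 12)],
   [(-1, 54), (-1, 10), (1, 45), (1, 12)],
   [(-1, 120), (-1, 10), (1, 45), (1, 12)],
   [(-1, 32), (-1, 32), (1, 45), (1, 12)],
   [(-1, 120), (-1, 10), (1, 144), (1, 12)],
   [(-1, 120), (-1, 32), (1, 144), (1, 12)],
   [(-1, 120), (1, 45), (1, 45), (1, 45)],
   [(-1, 54), (-1, 10), (1, 45), (1, 45)],
   [(-1, 32), (-1, 32), (1, 45), (1, 45)],
   [(-1, 54), (-1, 32), (1, 45), (1, 45)],
   [(-1, 120), (-1, 10), (1, 144), (1, 45)],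
   [(-1, 120), (-1, 54), (1, 144), (1, 45)],
   [(-1, 10), (-1, 10), (-1, 10), (1, 45)],
   [(-1, 32), (-1, 10), (-1, 10), (1, 45)],
   [(-1, 54), (-1, 54), (-1, 10), (1, 45)],
   [(-1, 54), (-1, 32), (-1, 32), (1, 45)],
   [(-1, 120), (-1, 54), (-1, 32), (1, 45)],
   [(-1, 120), (-1, 10), (-1, 10), (1, 144)],
   [(-1, 54), (-1, 54), (-1, 10), (1, 144)],
   [(-1, 54), (-1, 32), (-1, 32), (1, 144)],
   [(-1, 54), (-1, 54), (-1, 32), (1, 144)]]

/-- the degrees in the principal `11`-block of `M12` -/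
def l17 : List (ℤ × ℕ) := [(-1, 120), (-1, 54), (1, 144), (1, 45)]

/-- the possible values at an involution commuting with an element of order five -/
def zv : List (ℕ × List ℤ) := [(120, [0, 6, 4, 5]), (120, [0, 6, -4, 5]), (240, [0, 6, 4, 5]),
  (240, [0, 6, -4, 5]), (1440, [0, 18, 24, -15])]

theorem test1 : ∀ c ∈ Nat.divisors 8640, 64 ∣ c → allVals (fun τ => intsLe c
    (invP 95040 c (fun _ _ => true) τ.2)) [(-1, 32), (-1, 32), (1, 45), (1, 12)]
    (fun a => !(blkOK 8640 2 c 0 (invP 95040 c fun _ _ => true) (· == 0)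
      [(-1, 32), (-1, 32), (1, 45), (1, 12)] a) || false) = true := by decide +kernel

theorem test2 : ∀ c ∈ Nat.divisors 8640, 10 ∣ c → ∀ l ∈ sols, allVals (fun τ => intsLe c
    (invP 95040 c (fun d a => d % 5 != 0 || (d - a) % 5 == 0) τ.2)) l
    (fun a => !(blkOK 8640 2 c 0 (invP 95040 c fun d a => d % 5 != 0 || (d - a) % 5 == 0) (· == 0)
      l a) || (decide (l = [(-1, 32), (-1, 32), (1, 45), (1, 12)]) ||
        decide (l = l17) && decide ((c, a) ∈ zv))) = true := by decide +kernel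

theorem test3 : ∀ c ∈ Nat.divisors 1728, allVals (fun τ => intsLe c
    (invP 95040 c (fun _ _ => true) τ.2)) l17
    (fun a => !(blkOK 8640 2 c 0 (invP 95040 c fun _ _ => true) (· == 0) l17 a) ||
      decide ((c, a) = (192, [-8, 6, 0, -3]))) = true := by decide +kernel

variable {G : Type*} [Group G] [Finite G] [IsSimpleGroup G] (hc : Nat.card G = 95040)
include hc

theorem nc : ¬ IsMulCommutative G := sm_not_comm_of_not_prime (by rw [hc]; norm_num)

theorem perf : commutator G = ⊤ := sm_commutator_eq_top (nc hc)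

omit [IsSimpleGroup G] in
theorem hi11 {x : G} (hx : orderOf x = 11) : ¬ 11 ∣ (zpowers x).index :=
  not_dvd_index_zpowers hx (by rw [hc]; norm_num)

omit [IsSimpleGroup G] in
theorem hi5 {x : G} (hx : orderOf x = 5) : ¬ 5 ∣ (zpowers x).index :=
  not_dvd_index_zpowers hx (by rw [hc]; norm_num)

theorem step11 {x : G} (hx : orderOf x = 11) :
    Nat.card (centralizer ({x} : Set G)) = 11 ∧ Nat.card (d1E hx) = 5 ∧
      (centralizer ({x} : Set G)).index = 8640 ∧
      Nat.card (normalizer (zpowers x : Set G)) = 55 := by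
  have := Fintype.ofFinite G
  have hi := hi11 hc hx
  obtain ⟨n, e, v, h1, h2, h3, h4, h5, h6, h7, h8, h9, h10⟩ := d1_numeric (nc hc) hx hi
  obtain ⟨D⟩ := d1_nonempty_data hx hi
  have h11 : n * e * v = 8640 := by rw [hc] at h1; linarith
  have key : ∀ n ∈ Nat.divisors 8640, ∀ e ∈ Nat.divisors 10, n % 11 = 1 → n ≠ 1 → e ≠ 1 →
      n * e ∣ 8640 → (e = 2 ∧ (n = 12 ∨ n = 45 ∨ n = 144 ∨ n = 540)) ∨
        (e = 5 ∧ (n = 12 ∨ n = 144)) ∨ (e = 10 ∧ n = 12) ∨ (e = 10 ∧ n = 144) ∨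
        (e = 5 ∧ n = 1728) := by
    decide +kernel
  have hQ : v ≠ 1 → ∀ χ ∈ d1B0 11 G, χ ≠ triv G → decide (22 ≤ irrDeg χ) = true :=
    fun h χ hχ h0 => decide_eq_true (two_mul_le_deg (nc hc) hx hi (h7 ▸ h) hχ h0)
  rcases key n (Nat.mem_divisors.mpr ⟨Dvd.intro _ (by rw [← h11, mul_assoc]), by norm_num⟩) e
    (Nat.mem_divisors.mpr ⟨h4, by norm_num⟩) h2 h3 h5 (Dvd.intro _ h11) with
    ⟨rfl, h⟩ | ⟨rfl, h⟩ | ⟨rfl, rfl⟩ | ⟨rfl, rfl⟩ | ⟨rfl, rfl⟩
  · rcases h with rfl | rfl | rfl | rfl <;>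
    simpa using D.exists_sol hi (t := 5) (B := 308) (fun d => decide (22 ≤ d)) [] h9 hc h6 rfl
      (by norm_num) (hQ (by omega)) (by decide +kernel)
  · rcases h with rfl | rfl <;>
    simpa using D.exists_sol hi (t := 2) (B := 308) (fun d => decide (22 ≤ d)) [] h9 hc h6 rfl
      (by norm_num) (hQ (by omega)) (by decide +kernel)
  · simpa using D.exists_sol hi (t := 1) (B := 308) (fun d => decide (22 ≤ d)) [] h9 hc h6 rfl
      (by norm_num) (hQ (by omega)) (by decide +kernel)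
  · obtain rfl : v = 6 := by omega
    obtain ⟨y, hy1, hy⟩ := sm_exists_mem_orderOf_eq Nat.prime_five _ (h10 ▸ by norm_num :
      5 ∣ Nat.card (normalizer (zpowers x : Set G)))
    obtain ⟨t, ht1, ht⟩ := sm_exists_mem_orderOf_eq Nat.prime_two (d1V 11 x) (h7 ▸ by norm_num)
    obtain ⟨u, hu1, hu⟩ := sm_exists_mem_orderOf_eq Nat.prime_three (d1V 11 x) (h7 ▸ by norm_num)
    obtain ⟨z, ⟨hz1, hz⟩, hz2⟩ := exists_commute_of_card hy {g | g ∈ d1V 11 x ∧ orderOf g = 2}
      (fun g => and_congr (mem_normalizer_iff.mp (d1_normalizer_le_normalizer_V hx hi hy1) g).symm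
        (by rw [sm_orderOf_conj])) (by
        have h12 : {g | g ∈ d1V 11 x ∧ orderOf g = 2} ⊆ ((d1V 11 x : Set G) \ {1}) \ {u} := by
          rintro g ⟨h13, h14⟩
          refine ⟨⟨h13, ?_⟩, ?_⟩ <;> rintro rfl
          · simp at h14
          · omega
        have h13 := Set.ncard_le_ncard h12
        rw [Set.ncard_diff_singleton_of_mem (show u ∈ (d1V 11 x : Set G) \ {1} from
            ⟨hu1, by rintro rfl; simp at hu⟩),
          Set.ncard_diff_singleton_of_mem (one_mem _), ← Nat.card_coe_set_eq, ← Nat.card_coe_set_eq,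
          SetLike.coe_sort_coe, h7] at h13
        have : Nonempty {g | g ∈ d1V 11 x ∧ orderOf g = 2} := ⟨⟨t, ht1, ht⟩⟩
        exact Nat.not_dvd_of_pos_of_lt Nat.card_pos (by omega))
    simpa using D.exists_sol hi (t := 1) (B := 308) (fun d => decide (22 ≤ d) && d != 45) [] h9 hc
      h6 rfl (by norm_num) (fun χ hχ h0 => by
        rw [hQ (by omega) χ hχ h0, Bool.true_and, bne_iff_ne]
        intro e
        obtain ⟨a, a1, a2, a3, a4, -⟩ := exists_invol_val (perf hc) h0 hz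
        have a5 := dvd_sub_of_commute hx hi (Or.inl hχ) (by norm_num) hz (d1V_le hz1) a1
        have a6 := dvd_sub_of_commute hy (hi5 hc hy) (Or.inr (by rw [e]; norm_num)) (by norm_num) hz
          hz2 a1
        rw [e] at a2 a3 a4 a5 a6
        omega) (by decide +kernel)
  · obtain rfl : v = 1 := by omega
    exact ⟨h8, h6, h9, h10⟩

variable [Fintype G] {x : G} {hx : orderOf x = 11} {D : D1Data hx (d1B0 11 G)}

theorem idx2 : (d1E hx).index = 2 := by
  have := card_d1E_mul_index hx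
  rw [(step11 hc hx).2.1] at this
  omega

variable (D) in
theorem block11 : ∃ s, D.IsList s ∧ s.map D.ty ∈ sols :=
  D.exists_sol (hi11 hc hx) (t := 2) (B := 308) (fun d => decide (1 < d)) sols
    (step11 hc hx).2.2.1 hc (step11 hc hx).2.1 rfl (by norm_num)
    (fun χ _ h => decide_eq_true (one_lt_irrDeg (perf hc) h)) (by decide +kernel)

theorem c_dvd {g : G} (hg : ¬ orderOf g ∣ 11) : Nat.card (centralizer ({g} : Set G)) ∣ 8640 := by
  obtain ⟨x, hx⟩ := exists_prime_orderOf_dvd_card' (G := G) 11 (by rw [hc]; norm_num)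
  have h1 := not_dvd_card_centralizer hx (hi11 hc hx) (y := g) (by rwa [(step11 hc hx).1])
  have h2 := hc ▸ card_subgroup_dvd_card (centralizer ({g} : Set G))
  exact (Nat.Coprime.symm ((Nat.Prime.coprime_iff_not_dvd (by norm_num)).mpr h1)).dvd_of_dvd_mul_left
    (show _ ∣ 11 * 8640 from h2)

theorem invol_test {s : List (IrrCharacter G)} (hL : D.IsList s) {t : G} (ht : orderOf t = 2)
    {c : ℕ} (h1 : Nat.card (centralizer ({t} : Set G)) = c) (X : ℕ → ℤ → Bool)
    (hX : ∀ χ : IrrCharacter G, ∀ a : ℤ, χ.1 t = a → X (irrDeg χ) a = true) (f : List ℤ → Bool)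
    (h : allVals (fun τ => intsLe c (invP 95040 c X τ.2)) (s.map D.ty)
      (fun a => !(blkOK 8640 2 c 0 (invP 95040 c X) (· == 0) (s.map D.ty) a) || f a) = true) :
    f (s.map fun χ => ival χ t) = true := by
  have h2 : t ^ 2 = 1 := ht ▸ pow_orderOf_eq_one t
  refine blk_test (hi11 hc hx) hL (step11 hc hx).1 (step11 hc hx).2.2.1 (idx2 hc)
    (by rw [ht]; norm_num) h1 (fun χ _ => exists_int_invol χ.2.isCharacter h2) _
    (fun χ _ h3 a ha => invP_ok (perf hc) ht hc h1 h3 ha (hX χ a ha)) ?_ _ (fun M hM => ?_) f h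
  · simpa [h1] using norm_add_le (d1B0 11 G) List.nodup_nil (by simp) t
  · rw [cmN_eq_zero h2 h2 (not_isConj_inv hx (by norm_num) (by rw [(step11 hc hx).2.1]; norm_num))]
      at hM
    rw [beq_iff_eq]; omega

theorem block17 {s : List (IrrCharacter G)} (hL : D.IsList s) (hs : s.map D.ty ∈ sols) {y z : G}
    (hy : orderOf y = 5) (hz : orderOf z = 2) (h : z ∈ centralizer ({y} : Set G)) :
    s.map D.ty = l17 ∧ (Nat.card (centralizer ({z} : Set G)), s.map fun χ => ival χ z) ∈ zv := by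
  have h1 := invol_test hc hL hz rfl _ (fun χ a ha => by
      rw [Bool.or_eq_true, bne_iff_ne, beq_iff_eq]
      by_cases e : irrDeg χ % 5 = 0
      · exact Or.inr (Int.emod_eq_zero_of_dvd (dvd_sub_of_commute hy (hi5 hc hy)
          (Or.inr (Nat.dvd_of_mod_eq_zero e)) (by norm_num) hz h ha))
      · exact Or.inl e) _
    (test2 _ (Nat.mem_divisors.mpr ⟨c_dvd hc (by rw [hz]; norm_num), by norm_num⟩)
      (Nat.Coprime.mul_dvd_of_dvd_of_dvd (m := 2) (n := 5) (by norm_num)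
        (hz ▸ Subgroup.orderOf_dvd_natCard _ (mem_centralizer_singleton_iff.mpr rfl))
        (hy ▸ Subgroup.orderOf_dvd_natCard _ (mem_centralizer_singleton_iff.mpr
          (mem_centralizer_singleton_iff.mp h).symm))) _ hs)
  simp only [Bool.or_eq_true, Bool.and_eq_true, decide_eq_true_eq] at h1
  refine h1.resolve_left fun e => ?_
  obtain ⟨t, ht, h2⟩ := exists_pCentral (p := 2) (G := G) (by rw [hc]; norm_num)
  have h3 := (centralizer ({t} : Set G)).index_mul_card
  rw [hc] at h3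
  simpa using invol_test hc hL ht rfl _ (fun _ _ _ => rfl) (fun _ => false) (e ▸ test1 _
    (Nat.mem_divisors.mpr ⟨c_dvd hc (by rw [ht]; norm_num), by norm_num⟩)
    ((Nat.Coprime.pow_left 6 ((Nat.Prime.coprime_iff_not_dvd Nat.prime_two).mpr h2)).dvd_of_dvd_mul_left
      (by rw [h3]; norm_num)))

theorem mem11 {s : List (IrrCharacter G)} (hL : D.IsList s) {χ : IrrCharacter G}
    (h : ¬ 11 ∣ irrDeg χ) (h1 : χ ≠ triv G) : χ ∈ s ∨ ∃ k, D.θ k = χ :=
  ((D.mem_iff χ).mp (mem_B0_of_not_dvd hx (hi11 hc hx) (step11 hc hx).1 h)).imp_left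
    fun e => (hL.mem χ).mpr ⟨e, h1⟩

omit hc [IsSimpleGroup G] in
theorem d17 {s : List (IrrCharacter G)} (hL : D.IsList s) (hs : s.map D.ty = l17) :
    D.δ = 1 ∧ ∀ k, irrDeg (D.θ k) = 16 := by
  have h1 := hL.degree
  rw [hs] at h1
  simp only [D.irrDeg_θ]
  rcases D.δ_eq with e | e <;> rw [e] at h1 ⊢ <;> simp [l17] at h1 ⊢ <;> omega

end Cfsg.Lib.OC.M12
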