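import Cfsg.Agent.Lib.OrderChar.M12a

/-!
A simple group of order 95040: the principal `5`-block.
-/

set_option autoImplicit false

namespace Cfsg.Lib.OC.M12

open Subgroup Finset

/-- the possible degrees in the principal `5`-block -/
def sols5 : List (List (ℤ × ℕ)) :=
  [[(-1, 44), (1, 16), (1, 16), (1, 11)], [(-1, 144), (1, 66), (1, 66), (1, 11)],
   [(-1, 144), (-1, 44), (1, 176), (1, 11)], [(-1, 99), (1, 66), (1, 16), (1, 16)],
   [(-1, 144), (-1, 99), (1, 176), (1, 66)]]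

/-- the degrees in the principal `5`-block of `M12` -/
def l5 : List (ℤ × ℕ) := [(-1, 144), (-1, 99), (1, 176), (1, 66)]

/-- the value of the exceptional characters -/
def bv (a : List ℤ) : ℤ := 1 + zs (fun τ a => τ.1 * a) l17 a

/-- the values already known from the `11`-block -/
def known (a : List ℤ) (d : ℕ) (r : ℤ) : Bool :=
  (d != 16 || r == bv a) && (d != 144 || r == a.getD 2 0)

theorem test5 : ∀ ca ∈ zv, ∀ vi ∈ [(12, 1584), (2, 9504)], ∀ l ∈ sols5,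
    allVals (fun τ => intsLe ca.1 (invP 95040 ca.1
      (fun d r => (d - r) % 5 == 0 && known ca.2 d r) τ.2)) l
    (fun r => !(fullOK 5 11 vi.2 vi.1 ca.1 (1 + (ca.2.map (· ^ 2)).sum + 2 * bv ca.2 ^ 2) l r) ||
      decide (vi.1 = 2 ∧ l = l5 ∧ ca = (240, [0, 6, 4, 5]) ∧ r = [4, -1, -4, 6])) = true := by
  decide +kernel

theorem test6 : allVals (fun τ => intsLe 192 (invP 95040 192 (known [-8, 6, 0, -3]) τ.2)) l5
    (fun r => !(fullOK 5 11 9504 2 192 110 l5 r) || (decide (r = [0, 3, 0, 2]) ||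
      9504 + zs (fun τ a => τ.1 * (a * a) * (9504 / τ.2 : ℕ)) l5 r == 0)) = true := by
  decide +kernel

instance : Fact (Nat.Prime 3) := ⟨by norm_num⟩

variable {G : Type*} [Group G] [Finite G] [IsSimpleGroup G] (hc : Nat.card G = 95040)
include hc

theorem no11 {y : G} (hy : orderOf y = 5) {k : ℕ} (hv : Nat.card (d1V 5 y) = 3 ^ (k + 2))
    {χ : IrrCharacter G} (h1 : χ ∈ d1B0 5 G) (h2 : irrDeg χ = 11)
    (h3 : ∀ ψ ∈ d1B0 5 G, irrDeg ψ = 11 → ψ = χ) : False := by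
  classical
  have := Fintype.ofFinite (d1V 5 y)
  have h4 : ∀ u : d1V 5 y, u ≠ 1 → χ.1 u = (-4 : ℤ) := fun u hu => by
    obtain ⟨a, ha⟩ := int_of_unique hy (hi5 hc hy) h1 (h2 ▸ h3) u
    have a1 := irr_int_abs_lt (nc hc) (ne_triv_of_deg (by omega)) (by simpa using hu) ha
    have a2 := dvd_sub_of_mem_V hy (hi5 hc hy) (Or.inl h1) u.2 ha
    have a3 := char_int_modEq (p := 3) χ.2.isCharacter (u := u) (w := 1) (k := k + 2) (b := 11)
      (by rw [← hv, ← SubgroupClass.coe_pow, pow_card_eq_one']; rfl) (Commute.one_right _)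
      (by rwa [mul_one]) (by rw [coe_irrDeg, h2]; norm_num)
    rw [h2] at a1 a2
    rw [abs_lt] at a1
    rw [ha]; congr 1; omega
  obtain ⟨n, hn⟩ := exists_avg_nat χ.2.isCharacter (d1V 5 y)
  rw [avg_eq, ← add_sum_erase _ _ (mem_univ 1), sum_congr rfl fun u hu => h4 u (ne_of_mem_erase hu),
    sum_const, card_erase_of_mem (mem_univ 1), card_univ, ← Nat.card_eq_fintype_card, hv,
    inv_mul_eq_iff_eq_mul₀ (Nat.cast_ne_zero.mpr (by positivity)), OneMemClass.coe_one, coe_irrDeg, h2, nsmul_eq_mul,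
    Nat.cast_pred (by positivity)] at hn
  have h5 : (11 : ℤ) + (3 ^ (k + 2) - 1) * -4 = 3 ^ (k + 2) * n := by exact_mod_cast hn
  have h6 : (0 : ℤ) < 3 ^ k := by positivity
  rw [pow_add] at h5
  nlinarith [mul_nonneg h6.le (Int.natCast_nonneg n)]

variable [Fintype G] {x : G} {hx : orderOf x = 11} {D : D1Data hx (d1B0 11 G)}

theorem degQ (D : D1Data hx (d1B0 11 G)) (χ : IrrCharacter G) :
    irrDeg χ % 11 ∈ [0, 1, 5, 6, 10] := by
  by_cases h : 11 ∣ irrDeg χ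
  · simp [Nat.mod_eq_zero_of_dvd h]
  simp only [List.mem_cons, List.not_mem_nil, or_false]
  rcases (D.mem_iff χ).mp (mem_B0_of_not_dvd hx (hi11 hc hx) (step11 hc hx).1 h) with e | ⟨k, rfl⟩
  · have := D.oc_deg_X e
    rcases D.ε_eq χ e with e | e <;> rw [e] at this <;> omega
  · have := D.oc_deg_θ (hi11 hc hx)
    rw [(step11 hc hx).2.1] at this
    rw [D.irrDeg_θ]
    rcases D.δ_eq with e | e <;> rw [e] at this <;> omega

theorem even_V {y : G} (hy : orderOf y = 5) (D : D1Data hx (d1B0 11 G)) :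
    ∃ n e v, n * e * v = 19008 ∧ n % 5 = 1 ∧ (e = 2 ∨ e = 4) ∧ 2 ∣ v ∧ ¬ 11 ∣ v ∧
      Nat.card (d1E hy) = e ∧ Nat.card (d1V 5 y) = v ∧
      Nat.card (centralizer ({y} : Set G)) = 5 * v ∧ (centralizer ({y} : Set G)).index = e * n ∧
      Nat.card (normalizer (zpowers y : Set G)) = e * (5 * v) := by
  have hi := hi5 hc hy
  obtain ⟨n, e, v, h1, h2, -, h4, h5, h6, h7, h8, h9, h10⟩ := d1_numeric (nc hc) hy hi
  have h11 : ¬ 11 ∣ v := fun h => not_dvd_card_centralizer hx (hi11 hc hx) (y := y)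
    (by rw [hy, (step11 hc hx).1]; norm_num) (h8 ▸ h.mul_left 5)
  have h13 : n * e * v = 19008 := by rw [hc] at h1; linarith
  have h14 : e = 2 ∨ e = 4 := by
    have := Nat.le_of_dvd (by norm_num) h4
    interval_cases e <;> simp_all
  refine ⟨n, e, v, h13, h2, h14, ?_, h11, h6, h7, h8, h9, h10⟩
  by_contra h12
  have key : ∀ v ∈ Nat.divisors 19008, ∀ e ∈ [2, 4], ¬ 11 ∣ v → ¬ 2 ∣ v →
      19008 / (e * v) % 5 = 1 → (e = 4 ∧ v = 27) ∨ (e = 2 ∧ v = 9) := by decide +kernel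
  have hQ : v ≠ 1 → ∀ χ ∈ d1B0 5 G, χ ≠ triv G →
      (decide (10 ≤ irrDeg χ) && decide (irrDeg χ % 11 ∈ [0, 1, 5, 6, 10])) = true :=
    fun h χ hχ h0 => by
      rw [decide_eq_true (two_mul_le_deg (nc hc) hy hi (h7 ▸ h) hχ h0), decide_eq_true (degQ hc D χ)]
      rfl
  rcases key v (Nat.mem_divisors.mpr ⟨Dvd.intro_left _ h13, by norm_num⟩) e (by simpa using h14) h11
    h12 (by rw [← h13, mul_assoc, Nat.mul_div_cancel _ (Nat.pos_of_ne_zero fun h => by
      rw [mul_assoc, h] at h13; omega), h2]) with ⟨rfl, rfl⟩ | ⟨rfl, rfl⟩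
  · obtain rfl : n = 176 := by omega
    obtain ⟨s, F⟩ := exists_full hy hi h6
    obtain ⟨l, l1, l2, l3⟩ := F.exists_sol hy [] [triv G] (by simp) (by simp) (by simp [triv_mem_B0])
      (N1 := 95039) (S := 1) (m := 4) (B := 308)
      (fun d => decide (10 ≤ d) && decide (d % 11 ∈ [0, 1, 5, 6, 10]))
      [[(-1, 44), (1, 16), (1, 16), (1, 11)]] h9
      (by simp [F.one, show irrDeg (triv G) = 1 from irrDeg_one])
      (by rw [hc]; simp [show irrDeg (triv G) = 1 from irrDeg_one]) rfl (by norm_num)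
      (fun χ hχ h0 => hQ (by norm_num) χ hχ (by simpa using h0)) (by decide +kernel)
    obtain _ | ⟨a, _ | ⟨b, _ | ⟨c, _ | ⟨d, _ | _⟩⟩⟩⟩ := l <;> simp at l3
    refine no11 hc hy (k := 1) h7 ((l2 d).mp (by simp)) l3.2.2.2.2 fun ψ h h' => ?_
    have := (l2 ψ).mpr h
    simp only [List.cons_append, List.nil_append, List.mem_cons, List.not_mem_nil, or_false] at this
    rcases this with rfl | rfl | rfl | rfl | rfl
    · rw [show irrDeg (triv G) = 1 from irrDeg_one] at h'; omega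
    all_goals first | rfl | omega
  · obtain rfl : n = 1056 := by omega
    obtain ⟨D'⟩ := d1_nonempty_data hy hi
    obtain ⟨l, l1, l3⟩ := D'.exists_sol hi (t := 2) (B := 308)
      (fun d => decide (10 ≤ d) && decide (d % 11 ∈ [0, 1, 5, 6, 10])) [[(1, 11)]] h9 hc h6 rfl
      (by norm_num) (hQ (by norm_num)) (by decide +kernel)
    have l4 := l1.degree
    rw [List.mem_singleton.mp l3] at l4
    obtain _ | ⟨a, _ | _⟩ := l <;> simp [D1Data.ty] at l3
    refine no11 hc hy (k := 0) h7 ((D'.mem_iff a).mpr (Or.inl ((l1.mem a).mp (by simp)).1)) l3.2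
      fun ψ h h' => ?_
    rcases (D'.mem_iff ψ).mp h with e | ⟨k, rfl⟩
    · simpa using (l1.mem ψ).mpr ⟨e, ne_triv_of_deg (by omega)⟩
    · rw [D'.irrDeg_θ] at h'
      rcases D'.δ_eq with e | e <;> rw [e, h'] at l4 <;> simp at l4

section blk

variable {s : List (IrrCharacter G)} (hL : D.IsList s) (hs : s.map D.ty = l17)
include hL hs

theorem deg17 {χ : IrrCharacter G} (h1 : χ ≠ triv G) :
    irrDeg χ % 11 = 0 ∨ irrDeg χ ∈ [16, 45, 54, 120, 144] := by
  by_cases h : 11 ∣ irrDeg χ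
  · exact Or.inl (Nat.mod_eq_zero_of_dvd h)
  rcases mem11 hc hL h h1 with e | ⟨k, rfl⟩
  · have := hs ▸ List.mem_map_of_mem (f := D.ty) e
    simp only [l17, D1Data.ty, List.mem_cons, Prod.mk.injEq, List.not_mem_nil, or_false] at this ⊢
    omega
  · simp [(d17 hL hs).2]

omit hc [IsSimpleGroup G] in
theorem theta_val {g : G} (hg : ¬ 11 ∣ orderOf g) (hint : ∀ χ ∈ s, ∃ a : ℤ, χ.1 g = a)
    (k : (ZMod 11)ˣ ⧸ d1E hx) : (D.θ k).1 g = bv (s.map fun χ => ival χ g) := by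
  rw [blk_ival_θ hL hg hint, (d17 hL hs).1, one_mul, bv, ← hs, zs_map]; rfl

omit hc [IsSimpleGroup G] in
theorem not_dvd17 {χ : IrrCharacter G} (h : χ ∈ d1B0 11 G) : ¬ 11 ∣ irrDeg χ := by
  rcases (D.mem_iff χ).mp h with e | ⟨k, rfl⟩
  · have := D.oc_deg_X e
    rcases D.ε_eq χ e with e | e <;> rw [e] at this <;> omega
  · rw [(d17 hL hs).2]; norm_num

theorem norm17 {g : G} (hg : ¬ 11 ∣ orderOf g) (hint : ∀ χ ∈ s, ∃ a : ℤ, χ.1 g = a) :
    ∑ χ ∈ d1B0 11 G, ‖χ.1 g‖ ^ 2 = (1 + ((s.map fun χ => ival χ g).map (· ^ 2)).sum +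
      2 * bv (s.map fun χ => ival χ g) ^ 2 : ℤ) := by
  rw [blk_norm hL (idx2 hc) hg hint, (d17 hL hs).1, one_mul, bv, ← hs, zs_map, List.map_map]; rfl

theorem known_ok {g : G} (hg : ¬ 11 ∣ orderOf g) (hint : ∀ χ ∈ s, ∃ a : ℤ, χ.1 g = a)
    {χ : IrrCharacter G} {a : ℤ} (ha : χ.1 g = a) :
    known (s.map fun χ => ival χ g) (irrDeg χ) a = true := by
  have h1 := theta_val hL hs hg hint
  have h2 := (d17 hL hs).2
  simp only [known, Bool.and_eq_true, Bool.or_eq_true, bne_iff_ne, beq_iff_eq]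
  obtain _ | ⟨a, _ | ⟨b, _ | ⟨c, _ | ⟨d, _ | _⟩⟩⟩⟩ := s <;> simp [l17, D1Data.ty] at hs
  constructor <;> rw [or_iff_not_imp_left, not_not] <;> intro e <;>
    rcases mem11 hc hL (χ := χ) (by rw [e]; norm_num) (ne_triv_of_deg (by omega)) with h | ⟨k, rfl⟩
  · simp only [List.mem_cons, List.not_mem_nil, or_false] at h
    rcases h with rfl | rfl | rfl | rfl <;> omega
  · exact_mod_cast ha.symm.trans (h1 k)
  · simp only [List.mem_cons, List.not_mem_nil, or_false] at h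
    rcases h with rfl | rfl | rfl | rfl
    exacts [by omega, by omega, (ival_eq ha).symm, by omega]
  · have := h2 k; omega

end blk

theorem step5 {s : List (IrrCharacter G)} (hL : D.IsList s) (hs : s.map D.ty ∈ sols) {y : G}
    (hy : orderOf y = 5) : ∃ z σ l, orderOf z = 2 ∧ z ∈ d1V 5 y ∧ Nat.card (d1V 5 y) = 2 ∧
      Nat.card (d1E hy) = 4 ∧ (centralizer ({y} : Set G)).index = 9504 ∧ s.map D.ty = l17 ∧
      Nat.card (centralizer ({z} : Set G)) = 240 ∧ (s.map fun χ => ival χ z) = [0, 6, 4, 5] ∧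
      Full 5 y σ ∧ (triv G :: l).Nodup ∧ (∀ χ, χ ∈ triv G :: l ↔ χ ∈ d1B0 5 G) ∧
      (l.map fun χ => (σ χ, irrDeg χ)) = l5 ∧ (invSet y z).Nonempty := by
  have hi := hi5 hc hy
  obtain ⟨n, e, v, h1, h2, h3, h4, h5, h6, h7, -, h9, -⟩ := even_V hc hy D
  obtain ⟨z, hz1, hz⟩ := sm_exists_mem_orderOf_eq Nat.prime_two _ (h7 ▸ h4)
  obtain ⟨b1, b2⟩ := block17 hc hL hs hy hz (d1V_le hz1)
  have hQ : ∀ χ ∈ d1B0 5 G, χ ≠ triv G → (decide (10 ≤ irrDeg χ) &&
      decide (irrDeg χ % 11 = 0 ∨ irrDeg χ ∈ [16, 45, 54, 120, 144])) = true := fun χ hχ h0 => by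
    rw [decide_eq_true (two_mul_le_deg (nc hc) hy hi (by omega) hχ h0),
      decide_eq_true (deg17 hc hL b1 h0)]
    rfl
  have key : ∀ v ∈ Nat.divisors 19008, ∀ e ∈ [2, 4], ¬ 11 ∣ v ∧ 2 ∣ v ∧ e * v ∣ 19008 ∧
      19008 / (e * v) % 5 = 1 → (e = 2 ∧ v ∈ [4, 24, 54, 144, 864]) ∨
        (e = 4 ∧ (v ∈ [72, 432] ∨ (v, 19008 / v) ∈ [(12, 1584), (2, 9504)])) := by
    set_option synthInstance.maxSize 1000 in decide +kernel
  have h8 : e * n = 19008 / v := by
    rw [← h1, Nat.mul_div_cancel _ (Nat.pos_of_ne_zero fun h => by rw [h] at h1; omega), mul_comm]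
  rw [h8] at h9
  rcases key v (Nat.mem_divisors.mpr ⟨Dvd.intro_left _ h1, by norm_num⟩) e (by simpa using h3) ⟨h5, h4,
    Dvd.intro_left n (by rw [← h1, mul_assoc]), by
      rw [← h1, mul_assoc, Nat.mul_div_cancel _ (Nat.pos_of_ne_zero fun h => by
        rw [mul_assoc, h] at h1; omega), h2]⟩ with ⟨rfl, h⟩ | ⟨rfl, h⟩
  · obtain ⟨D'⟩ := d1_nonempty_data hy hi
    simp only [List.mem_cons, List.not_mem_nil, or_false] at h
    rcases h with rfl | rfl | rfl | rfl | rfl <;>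
    simpa using D'.exists_sol hi (t := 2) (B := 308)
      (fun d => decide (10 ≤ d) && decide (d % 11 = 0 ∨ d ∈ [16, 45, 54, 120, 144])) [] h9 hc h6 rfl
      (by norm_num) hQ (by decide +kernel)
  obtain ⟨σ, F⟩ := exists_full hy hi h6
  have h10 := fun sl => F.exists_sol hy [] [triv G] (by simp) (by simp) (by simp [triv_mem_B0])
    (N1 := 95039) (S := 1) (m := 4) (B := 308)
    (fun d => decide (10 ≤ d) && decide (d % 11 = 0 ∨ d ∈ [16, 45, 54, 120, 144])) sl h9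
    (by simp [F.one, show irrDeg (triv G) = 1 from irrDeg_one])
    (by rw [hc]; simp [show irrDeg (triv G) = 1 from irrDeg_one]) rfl (by norm_num)
    (fun χ hχ h0 => hQ χ hχ (by simpa using h0))
  rcases h with h | h
  · simp only [List.mem_cons, List.not_mem_nil, or_false] at h
    rcases h with rfl | rfl <;> simpa using h10 [] (by decide +kernel)
  obtain ⟨l, l1, l2, l3⟩ := h10 sols5 (by
    simp only [List.mem_cons, List.not_mem_nil, or_false, Prod.mk.injEq] at h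
    rcases h with ⟨-, h⟩ | ⟨-, h⟩ <;> rw [h] <;> decide +kernel)
  have hz11 : ¬ 11 ∣ orderOf z := by rw [hz]; norm_num
  have hint : ∀ χ ∈ s, ∃ a : ℤ, χ.1 z = a :=
    fun χ _ => exists_int_invol χ.2.isCharacter (hz ▸ pow_orderOf_eq_one z)
  obtain ⟨f1, f2⟩ := full_invol F hy hi (by norm_num) l1 l2 h9 h7 hz rfl (d1B0 11 G)
    (fun χ => not_dvd17 hL b1) (norm17 hc hL b1 hz11 hint) _ (fun χ hχ a ha =>
      invP_ok (perf hc) hz hc rfl (fun e => (List.nodup_cons.mp l1).1 (e ▸ hχ)) ha (by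
        rw [known_ok hc hL b1 hz11 hint ha, Bool.and_true, beq_iff_eq]
        exact Int.emod_eq_zero_of_dvd (dvd_sub_of_mem_V hy hi
          (Or.inl ((l2 χ).mp (List.mem_cons_of_mem _ hχ))) hz1 ha))) _ (test5 _ b2 _ h _ l3)
  simp only [decide_eq_true_eq, Prod.mk.injEq] at f1
  obtain ⟨rfl, f3, ⟨f4, f5⟩, f6⟩ := f1
  refine ⟨z, σ, l, hz, hz1, h7, h6, h9, b1, f4, f5, F, l1, l2, f3, ?_⟩
  rw [f3, f4, f6] at f2
  rw [← Set.nonempty_coe_sort]
  refine (Nat.card_ne_zero.mp fun e => ?_).1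
  rw [e] at f2
  revert f2; decide +kernel

end Cfsg.Lib.OC.M12
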