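import Cfsg.Agent.Lib.OrderChar.M12b

/-!
A simple group of order 95040: the elements of order four and the characters of degree eleven.
-/

set_option autoImplicit false

namespace Cfsg.Lib.OC.M12

open Subgroup Finset
open scoped ComplexConjugate

/-- the value attached to a degree -/
def tab (a : List ℤ) (d : ℕ) : ℤ :=
  if d = 120 then a.getD 0 0 else if d = 54 then a.getD 1 0 else if d = 144 then a.getD 2 0 else
    if d = 45 then a.getD 3 0 else bv a

/-- the conditions on the value at an element of order four -/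
def fourP (c : ℕ) (a : List ℤ) (d : ℕ) (r : ℤ) : Bool :=
  ((95040 / c : ℕ) * r) % d == 0 && (d + tab a d - 2 * r) % 8 == 0

theorem test4a : ∀ c ∈ Nat.divisors 48, allVals (fun τ => intsLe c (fourP c [0, 6, 4, 5] τ.2)) l17
    (fun a => !(blkOK 8640 2 c 0 (fourP c [0, 6, 4, 5]) (fun M => 11 * M % (c * c : ℕ) == 0) l17 a)
      || false) = true := by decide +kernel

theorem test4b : ∀ c ∈ Nat.divisors 192, allVals (fun τ => intsLe c (fourP c [-8, 6, 0, -3] τ.2))
    l17 (fun a => !(blkOK 8640 2 c 3 (fourP c [-8, 6, 0, -3]) (fun M => 11 * M % (c * c : ℕ) == 0)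
      l17 a) || 2 * bv a - a.getD 1 0 != 2) = true := by decide +kernel

variable {G : Type*} [Group G] [Finite G] [IsSimpleGroup G] (hc : Nat.card G = 95040)
include hc

variable [Fintype G] {x : G} {hx : orderOf x = 11} {D : D1Data hx (d1B0 11 G)}

section blk

variable {s : List (IrrCharacter G)} (hL : D.IsList s) (hs : s.map D.ty = l17)
include hL hs

theorem int17 {χ : IrrCharacter G} (h : χ ∈ s) (g : G) : ∃ a : ℤ, χ.1 g = a := by
  have h2 := (d17 hL hs).2
  refine int_of_unique hx (hi11 hc hx) ((D.mem_iff χ).mpr (Or.inl ((hL.mem χ).mp h).1))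
    (fun ψ h3 h4 => ?_) g
  have h5 := mem11 hc hL (not_dvd17 hL hs h3)
    (fun e => ((hL.mem χ).mp h).2 (eq_one_of_irrDeg_eq_one (perf hc) (by
      rw [← h4, e]; exact irrDeg_one)))
  obtain _ | ⟨a, _ | ⟨b, _ | ⟨c, _ | ⟨d, _ | _⟩⟩⟩⟩ := s <;> simp [l17, D1Data.ty] at hs
  simp only [List.mem_cons, List.not_mem_nil, or_false] at h h5
  rcases h5 with (rfl | rfl | rfl | rfl) | ⟨k, rfl⟩ <;> rcases h with rfl | rfl | rfl | rfl
  all_goals first | rfl | omega | (have := h2 k; omega)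

theorem tab_ok (g : G) (hg : ¬ 11 ∣ orderOf g) {χ : IrrCharacter G} (h : χ ∈ d1B0 11 G)
    (h0 : χ ≠ triv G) : χ.1 g = tab (s.map fun χ => ival χ g) (irrDeg χ) := by
  have hint := fun χ h => int17 hc hL hs (χ := χ) h g
  have h1 := theta_val hL hs hg hint
  have h2 := (d17 hL hs).2
  have h5 := mem11 hc hL (not_dvd17 hL hs h) h0
  obtain _ | ⟨a, _ | ⟨b, _ | ⟨c, _ | ⟨d, _ | _⟩⟩⟩⟩ := s <;> simp [l17, D1Data.ty] at hs
  simp only [List.mem_cons, List.not_mem_nil, or_false] at h5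
  rcases h5 with (rfl | rfl | rfl | rfl) | ⟨k, rfl⟩
  any_goals rw [coe_ival (hint χ (by simp))]; simp [tab, hs]
  rw [h1, h2]; rfl

theorem four_test {w : G} (hw : w ^ 4 = 1) {c e0 : ℕ}
    (h1 : Nat.card (centralizer ({w} : Set G)) = c) {a : List ℤ}
    (ha : (s.map fun χ => ival χ (w ^ 2)) = a) (he : ∑ χ ∈ d1B0 11 G, ‖χ.1 w‖ ^ 2 + e0 ≤ c)
    (f : List ℤ → Bool) (h : allVals (fun τ => intsLe c (fourP c a τ.2)) l17
      (fun r => !(blkOK 8640 2 c e0 (fourP c a) (fun M => 11 * M % (c * c : ℕ) == 0) l17 r) ||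
        f r) = true) : f (s.map fun χ => ival χ w) = true := by
  have h2 : ∀ k, ¬ 11 ∣ orderOf (w ^ k) := fun k e => by
    have := e.trans ((orderOf_pow_dvd k).trans (orderOf_dvd_of_pow_eq_one hw))
    omega
  refine blk_test (hi11 hc hx) hL (step11 hc hx).1 (step11 hc hx).2.2.1 (idx2 hc)
    (pow_one w ▸ h2 1) h1 (fun χ h => int17 hc hL hs h w) _ (fun χ h3 h4 r hr => ?_) he _
    (fun M hM => ?_) f (hs ▸ h)
  · obtain ⟨r', u, h5, -, h6⟩ := exists_four (perf hc) χ hw (tab_ok hc hL hs _ (h2 2) h3 h4)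
    have h7 := congrArg Complex.re (hr.symm.trans h5)
    have h8 := congrArg Complex.im (hr.symm.trans h5)
    simp at h7 h8
    have h9 := dvd_index_mul hr
    rw [index_eq_div hc h1] at h9
    rw [fourP, Int.emod_eq_zero_of_dvd h9, h7, ← ha, Int.emod_eq_zero_of_dvd (h6 (by exact_mod_cast h8.symm))]; rfl
  · rw [show (11 : ℤ) * M = _ from hM.symm, cmN_eq_mul, h1, Nat.cast_mul, Int.mul_emod_right]; rfl

end blk

variable {s : List (IrrCharacter G)} (hL : D.IsList s) (hs : s.map D.ty ∈ sols)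
include hL hs

/-- an element of order four acting on `y` -/
theorem exists_w {y : G} (hy : orderOf y = 5) : ∃ w, w * y * w⁻¹ = y ^ 2 ∧ orderOf w = 4 ∧
    Nat.card (normalizer (zpowers y : Set G)) = 40 ∧ Nat.card (centralizer ({y} : Set G)) = 10 ∧
    Nat.card (centralizer ({w ^ 2} : Set G)) = 192 ∧
    (s.map fun χ => ival χ (w ^ 2)) = [-8, 6, 0, -3] := by
  have hi := hi5 hc hy
  obtain ⟨z, σ, l, hz, z1, z2, z3, -, z4, -, -, -, -, -, -, u, u1, u2⟩ := step5 hc hL hs hy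
  obtain ⟨n, e, v, -, -, -, -, -, h6, h7, h8, -, h10⟩ := even_V hc hy D
  obtain rfl : e = 4 := h6.symm.trans z3
  obtain rfl : v = 2 := h7.symm.trans z2
  obtain ⟨w, hw1, hw2⟩ := exists_normalizing hy (a := 5) (q := 8)
    (isConj_pow_of_pow hy z3 (r := 2) (by norm_num)) (by norm_num) (by rw [h10])
  have ht1 : w ^ 2 * y * (w ^ 2)⁻¹ = y ^ 4 := by simpa using conj_pow_pow hw1 2 1
  have ht2 : w ^ 2 * y * (w ^ 2)⁻¹ = y⁻¹ := by
    rw [ht1, eq_inv_iff_mul_eq_one, ← pow_succ, ← orderOf_dvd_iff_pow_eq_one, hy]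
  have hz1 : z ≠ 1 := by rintro rfl; simp at hz
  have hw4 : w ^ 4 = 1 := by
    obtain ⟨a, ha, b, hb, h1⟩ := d1_exists_mul hy hi (c := u * (w ^ 2)⁻¹) (by
      rw [mem_centralizer_singleton_iff, ← mul_inv_eq_iff_eq_mul]
      calc _ = u * ((w ^ 2)⁻¹ * (y⁻¹)⁻¹ * w ^ 2) * u⁻¹ := by group
        _ = (u * y * u⁻¹)⁻¹ := by rw [← ht2]; group
        _ = y := by rw [u2, inv_inv])
    have h2 : b * w ^ 2 * y * (b * w ^ 2)⁻¹ = y⁻¹ := by
      calc _ = b * (w ^ 2 * y * (w ^ 2)⁻¹) * b⁻¹ := by group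
        _ = _ := by rw [ht2, ← (d1_commute (inv_mem (mem_zpowers y)) hb).eq]; group
    have h3 := isConj_mul_of_inverts hy (by norm_num) h2 ha
    rw [← mul_assoc, ← h1, inv_mul_cancel_right] at h3
    have h4 := sq_eq_one_of_isConj (hz ▸ pow_orderOf_eq_one z) (u1.trans h3.symm)
    have h5 : Commute b (w ^ 2) := by
      by_cases e : b = 1
      · rw [e]; exact Commute.one_left _
      have h6 := (mem_normalizer_iff.mp (d1_normalizer_le_normalizer_V hy hi (d1_mem_normalizer hy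
        (ht2 ▸ inv_mem (mem_zpowers y)))) b).mp hb
      exact (mul_inv_eq_iff_eq_mul.mp (mem_two z2 hb e h6 (by simpa using e))).symm
    rwa [h5.mul_pow, orderOf_dvd_iff_pow_eq_one.mp (z2 ▸ (d1V 5 y).orderOf_dvd_natCard hb), one_mul,
      ← pow_mul] at h4
  have ht0 : w ^ 2 ≠ 1 := ne_one_of_conj ht1 (by rw [hy]; decide)
  have ht : orderOf (w ^ 2) = 2 := orderOf_eq_prime (by rw [← pow_mul, hw4]) ht0
  have hw : orderOf w = 4 := orderOf_eq_prime_pow (p := 2) (n := 1) ht0 hw4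
  refine ⟨w, hw1, hw, h10, h8, ?_⟩
  by_cases h5 : 5 ∣ Nat.card (centralizer ({w ^ 2} : Set G))
  · exfalso
    obtain ⟨y', y1, hy'⟩ := sm_exists_mem_orderOf_eq Nat.prime_five _ h5
    obtain ⟨z', -, -, hz', z1', z2', -, -, -, z5', z6', -⟩ := step5 hc hL hs hy'
    obtain rfl : w ^ 2 = z' := mem_two z2' z1' (by rintro rfl; simp at hz')
      ((mem_d1V hy' (hi5 hc hy')).mpr ⟨mem_centralizer_singleton_iff.mpr
        (mem_centralizer_singleton_iff.mp y1).symm, by rw [ht]; norm_num⟩) ht0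
    have h1 : Nat.card (centralizer ({w} : Set G)) ∣ 240 := z5' ▸ card_dvd_of_le fun g hg =>
      mem_centralizer_singleton_iff.mpr
        (Commute.pow_right (mem_centralizer_singleton_iff.mp hg) 2)
    have h2 := not_dvd_card_centralizer hy hi (y := w) (by rw [hw, h8]; norm_num)
    simpa using four_test hc hL z4 hw4 rfl z6' (by
      simpa using norm_add_le (d1B0 11 G) List.nodup_nil (by simp) w) _ (test4a _
        (Nat.mem_divisors.mpr ⟨((Nat.prime_five.coprime_iff_not_dvd.mpr h2).symm).dvd_of_dvd_mul_left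
          (show _ ∣ 5 * 48 from h1), by norm_num⟩))
  · exact Prod.mk.inj (of_decide_eq_true (invol_test hc hL ht rfl _ (fun _ _ _ => rfl) _ (z4 ▸ test3 _
      (Nat.mem_divisors.mpr ⟨((Nat.prime_five.coprime_iff_not_dvd.mpr h5).symm).dvd_of_dvd_mul_left
        (show _ ∣ 5 * 1728 from c_dvd hc (by rw [ht]; norm_num)), by norm_num⟩))))

omit hL hs in
theorem w_val {y w : G} (hy : orderOf y = 5) (he : Nat.card (d1E hy) = 4)
    (hw1 : w * y * w⁻¹ = y ^ 2) (hw : orderOf w = 4) {χ : IrrCharacter G} (h1 : irrDeg χ = 11)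
    (h2 : χ.1 y = 1) (h3 : χ.1 (w ^ 2) = 3) :
    χ.1 w = -1 ∨ ∃ n : ℕ, 3 ≤ n ∧ avg (zpowers y ⊔ zpowers w) χ.1 = n := by
  have := Fintype.ofFinite (zpowers y)
  have h4 : ∀ i, 0 < i → i < 5 → χ.1 (y ^ i) = 1 := fun i h h' =>
    (val_pow hy he χ (Nat.not_dvd_of_pos_of_lt h h')).trans h2
  have ht1 : w ^ 2 * y * (w ^ 2)⁻¹ = y ^ 4 := by simpa using conj_pow_pow hw1 2 1
  have ht : orderOf (w ^ 2) = 2 := by rw [orderOf_pow, hw]; norm_num
  have h5 : ∀ j, 2 ^ j % 5 ≠ 1 → avg (zpowers y) (fun q => χ.1 (w ^ j * q)) = χ.1 (w ^ j) :=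
    fun j hj => avg_const fun q hq => by
      obtain ⟨i, rfl⟩ := mem_powers_iff_mem_zpowers.mpr hq
      have h6 := conj_pow_pow hw1 j 1
      rw [pow_one, mul_one] at h6
      rw [χ.2.isClassFunction.eq_of_isConj (isConj_pow_mul hy h6 hj i)]
      exact χ.2.isClassFunction.eq_of_isConj (isConj_iff.mpr ⟨y ^ i, by group⟩)
  have h6 := avg_mul_eq_of_avg χ.2.isCharacter (Q := zpowers y) (B := zpowers y ⊔ zpowers (w ^ 2))
    le_sup_left (by
      rw [avg_frobenius hy ht ht1 (by norm_num) (by decide) χ.2.isClassFunction h4,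
        avg_zpowers hy h4, coe_irrDeg, h1]
      norm_num [h3]) (mem_sup_right (mem_zpowers _)) (w ^ 1)
  rw [← pow_add, h5 _ (by norm_num), h5 _ (by norm_num), pow_one] at h6
  have h7 : w ^ (1 + 2) = w⁻¹ := by
    rw [eq_inv_iff_mul_eq_one, ← pow_succ, ← orderOf_dvd_iff_pow_eq_one, hw]
  obtain ⟨r, u, h8, -, h9⟩ := exists_four (perf hc) χ (hw ▸ pow_orderOf_eq_one w) (b := 3)
    (by simpa using h3)
  obtain rfl : u = 0 := by
    rw [h7, χ.2.isCharacter.apply_inv, h8] at h6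
    have := congrArg Complex.im h6
    simp at this
    exact_mod_cast (by linarith : (u : ℝ) = 0)
  obtain ⟨n, hn⟩ := exists_avg_nat χ.2.isCharacter (zpowers y ⊔ zpowers w)
  have h10 := avg_frobenius hy hw hw1 (by norm_num) (by decide) χ.2.isClassFunction h4
  simp only [sum_range_succ, range_zero, sum_empty, Nat.add_one_sub_one] at h10
  rw [hn, show 2 + 1 = 1 + 2 from rfl, h6, show 1 + 1 = 2 from rfl, h3, zero_add, pow_one, h8,
    coe_irrDeg, h1] at h10
  have h11 : 2 * (n : ℤ) = 3 + r := by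
    have : ((2 * (n : ℤ) : ℤ) : ℂ) = (3 + r : ℤ) := by push_cast; rw [h10]; push_cast; ring
    exact_mod_cast this
  have h12 := h9 rfl
  rw [h1] at h12
  by_cases e : r = -1
  · left; rw [h8, e]; simp
  · exact Or.inr ⟨n, by omega, hn⟩

set_option maxHeartbeats 2000000 in
theorem exists_chi {y : G} (hy : orderOf y = 5) : ∃ (w : G) (χ : IrrCharacter G) (n : ℕ),
    w * y * w⁻¹ = y ^ 2 ∧ orderOf w = 4 ∧ Nat.card (normalizer (zpowers y : Set G)) = 40 ∧
    irrDeg χ = 11 ∧ (∀ i, 0 < i → i < 5 → χ.1 (y ^ i) = 1) ∧ 3 ≤ n ∧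
    avg (zpowers y ⊔ zpowers w) χ.1 = n := by
  have hi := hi5 hc hy
  obtain ⟨z, σ, l, -, -, z2, z3, z4, z5, -, -, F, l1, l2, l3, -⟩ := step5 hc hL hs hy
  obtain ⟨w, hw1, hw, hN, hC, t1, t2⟩ := exists_w hc hL hs hy
  have ht1 : w ^ 2 * y * (w ^ 2)⁻¹ = y⁻¹ := by
    have : w ^ 2 * y * (w ^ 2)⁻¹ = y ^ 4 := by simpa using conj_pow_pow hw1 2 1
    rw [this, eq_inv_iff_mul_eq_one, ← pow_succ, ← orderOf_dvd_iff_pow_eq_one, hy]
  have ht : orderOf (w ^ 2) = 2 := by rw [orderOf_pow, hw]; norm_num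
  generalize ht0 : w ^ 2 = t at *
  have ht2 : t ^ 2 = 1 := ht ▸ pow_orderOf_eq_one t
  have t11 : ¬ 11 ∣ orderOf t := by rw [ht]; norm_num
  have y11 : ¬ 11 ∣ orderOf y := by rw [hy]; norm_num
  have w11 : ¬ 11 ∣ orderOf w := by rw [hw]; norm_num
  have hint := fun g χ h => int17 hc hL z5 (χ := χ) h g
  obtain ⟨f1, f2⟩ := full_invol F hy hi (by norm_num) l1 l2 z4 z2 ht t1 (d1B0 11 G)
    (fun χ => not_dvd17 hL z5) (e0 := 110) (by
      rw [norm17 hc hL z5 t11 (hint t), t2]; congr 1) _ (fun χ hχ a ha =>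
      invP_ok (perf hc) ht hc t1 (fun e => (List.nodup_cons.mp l1).1 (e ▸ hχ)) ha
        (t2 ▸ known_ok hc hL z5 t11 (hint t) ha)) _ (l3 ▸ test6)
  rw [Bool.or_eq_true, decide_eq_true_eq, beq_iff_eq] at f1
  replace f1 := f1.resolve_right fun e => by
    have : Nonempty (invSet y t) := ⟨⟨t, IsConj.refl t, ht1⟩⟩
    have := Nat.card_pos (α := invSet y t)
    rw [Nat.cast_ofNat (n := 9504), e, mul_zero, mul_zero, Nat.cast_eq_zero] at f2
    exact absurd f2 (by positivity)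
  clear f2
  have h3 : Nat.card ((ZMod 11)ˣ ⧸ d1E hx) = 2 := idx2 hc
  obtain ⟨k, hk, hk'⟩ := (Nat.card_eq_two_iff' 1).mp h3
  have h4 := (d17 hL z5).2
  have iy := int_of_full hy z3
  have v5 : ∀ χ ∈ triv G :: l, χ.1 y = σ χ := fun χ h => F.val χ ((l2 χ).mp h) y hy.symm.dvd
  have θy := theta_val hL z5 y11 (hint y)
  have θt := theta_val hL z5 t11 (hint t)
  have θw := theta_val hL z5 w11 (hint w)
  have m11 := fun χ => mem11 hc hL (χ := χ)
  have z0 : ∀ χ : IrrCharacter G, 5 ∣ irrDeg χ → χ.1 y = 0 := fun χ h =>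
    apply_eq_zero_of_dvd (p := 5) (by rw [hc]; norm_num) h hy.symm.dvd
  have four := four_test hc hL z5 (hw ▸ pow_orderOf_eq_one w) (e0 := 3) rfl (ht0 ▸ t2)
  have n11 := fun χ => not_dvd17 hL z5 (χ := χ)
  have rw5 := F.reg w (by rw [hw]; norm_num)
  have rt5 := F.reg t (by rw [ht]; norm_num)
  have r15 := F.reg 1 (by simp)
  rw [Full.sum_list l1 l2] at rw5 rt5 r15
  have it : ∀ χ : IrrCharacter G, χ.1 t = ival χ t :=
    fun χ => coe_ival (exists_int_invol χ.2.isCharacter ht2)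
  obtain _ | ⟨a, _ | ⟨b, _ | ⟨c, _ | ⟨d, _ | _⟩⟩⟩⟩ := s <;> simp [l17, D1Data.ty] at z5
  obtain _ | ⟨c', _ | ⟨e, _ | ⟨f, _ | ⟨g, _ | _⟩⟩⟩⟩ := l <;> simp [l5] at l3
  obtain ⟨⟨-, da⟩, ⟨-, db⟩, ⟨-, dc⟩, -, dd⟩ := z5
  obtain ⟨⟨sc, dc'⟩, ⟨se, de⟩, ⟨sf, df⟩, sg, dg⟩ := l3
  obtain rfl : c' = c := by
    rcases m11 c' (by omega) (ne_triv_of_deg (by omega)) with h | ⟨j, rfl⟩
    · simp only [List.mem_cons, List.not_mem_nil, or_false] at h
      rcases h with rfl | rfl | rfl | rfl <;> first | rfl | omega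
    · have := h4 j; omega
  simp only [List.mem_cons, List.not_mem_nil, or_false, forall_eq_or_imp, forall_eq, sc, se, sf, sg]
    at v5
  obtain ⟨-, vc, ve, vf, vg⟩ := v5
  have d1 : irrDeg (triv G) = 1 := irrDeg_one
  have hK : [triv G, c', e, f, g, D.θ 1, D.θ k, b].Nodup := by
    have := D.θ_inj.ne hk.symm
    have h5 : ∀ χ ψ : IrrCharacter G, irrDeg χ ≠ irrDeg ψ → χ ≠ ψ := fun χ ψ h e => h (e ▸ rfl)
    simp [this, h5, d1, dc, de, df, dg, db, h4]
  have θy' : ∀ j, (D.θ j).1 y = (-ival b y : ℤ) := fun j => by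
    rw [θy]; simp [bv, zs, l17, ival_eq vc, ival_eq (a := 0) (by simpa using z0 a (by omega)),
      ival_eq (a := 0) (by simpa using z0 d (by omega))]
  have vb : b.1 y = (-1 : ℤ) := by
    have h5 := list_norm_le hK y
    have h6 := dvd_sub_of_full hy z3 (θy' 1)
    simp [vc, ve, vf, vg, θy', coe_ival (iy b), hC] at h5
    have h7 : 3 * ival b y ^ 2 ≤ 5 := by
      have : ((3 * ival b y ^ 2 : ℤ) : ℝ) ≤ (5 : ℤ) := by push_cast; linarith
      exact_mod_cast this
    have h8 : -2 < ival b y := by nlinarith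
    have h9 : ival b y < 2 := by nlinarith
    rw [h4] at h6
    rw [coe_ival (iy b)]; congr 1; omega
  simp only [ival_eq vb, neg_neg] at θy'
  have pm : ∀ A : ℤ, A ≠ 0 → A ^ 2 ≤ (2 : ℕ) → A = 1 ∨ A = -1 := fun A h h' => by
    rw [Nat.cast_ofNat] at h'
    have : -2 < A := by nlinarith
    have : A < 2 := by nlinarith
    omega
  obtain ⟨r, r1, r2, r3⟩ := exists_rest iy hK (n := 2) (by
      simp [vc, ve, vf, vg, θy', vb, hC]; norm_num)
    (D1Data.tyL 5 9504 308 fun d => d % 11 == 0) (fun χ h5 h6 h7 => D1Data.mem_tyL (by norm_num)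
      (pm _ h6 h7) (dvd_sub_of_full hy z3 (coe_ival (iy χ))) (by
        have h8 := dvd_index_mul (coe_ival (iy χ))
        rw [z4] at h8
        rcases pm _ h6 h7 with e | e <;> rw [e] at h8
        · exact_mod_cast h8
        · rw [mul_neg, dvd_neg] at h8; exact_mod_cast h8) (D1Data.irrDeg_lt hc (by norm_num)) (by
        rw [beq_iff_eq, ← Nat.dvd_iff_mod_eq_zero]
        by_contra h8
        simp only [List.mem_cons, List.not_mem_nil, or_false, not_or] at h5
        rcases m11 χ h8 h5.1 with h | ⟨j, rfl⟩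
        · simp only [List.mem_cons, List.not_mem_nil, or_false] at h
          rcases h with rfl | rfl | rfl | rfl
          exacts [h6 (ival_eq (by simpa using z0 χ (by omega))), by tauto, by tauto,
            h6 (ival_eq (by simpa using z0 χ (by omega)))]
        · by_cases e : j = 1
          · simp [e] at h5
          · simp [hk' j e] at h5)) (by decide +kernel)
    (fun l => (l.map fun τ => τ.1 * (τ.2 : ℤ)).sum != 22 ||
      decide (l ∈ [[(1, 11), (1, 11)], [(-1, 44), (1, 66)]])) (by decide +kernel)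
  have o1 := col_orth r1 r2 (a := 1) fun h => by
    have := orderOf_eq_of_isConj h; rw [hy, orderOf_one] at this; omega
  have ot := col_orth r1 r2 (a := t) fun h => by
    have := orderOf_eq_of_isConj h; rw [hy, ht] at this; omega
  have ow := col_orth r1 r2 (a := w) fun h => by
    have := orderOf_eq_of_isConj h; rw [hy, hw] at this; omega
  have cm := col_cmN r1 r2 t t
  have : Nonempty {u : G // IsConj t u ∧ IsConj t (u⁻¹ * y)} := ⟨⟨t, IsConj.refl t, by
    have h5 := isConj_mul_of_inverts hy (by norm_num) ht1 (inv_mem (mem_zpowers y))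
    rw [← ht1, inv_mul_cancel_right] at h5
    rwa [inv_eq_of_mul_eq_one_right (pow_two t ▸ ht2 : t * t = 1)]⟩⟩
  have cp := Nat.card_pos (α := {u : G // IsConj t u ∧ IsConj t (u⁻¹ * y)})
  rw [cmN_eq_mul, t1, hc] at cm
  generalize Nat.card {u : G // IsConj t u ∧ IsConj t (u⁻¹ * y)} = m at cm cp
  simp only [List.map_cons, List.map_nil, List.cons.injEq] at f1 t2
  rw [Bool.or_eq_true, bne_iff_ne, decide_eq_true_eq] at r3
  replace r3 := r3.resolve_left fun h => h (by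
    rw [List.map_append, List.sum_append, List.map_congr_left (l := r)
      (g := fun χ => ((ival χ y * irrDeg χ : ℤ) : ℂ)) fun χ _ => by
        rw [coe_ival (iy χ), coe_irrDeg]; simp [mul_comm]] at o1
    simp [vc, ve, vf, vg, θy', vb, coe_irrDeg, d1, dc, de, df, dg, db, h4] at o1
    have : (((r.map fun χ => ival χ y * irrDeg χ).sum : ℤ) : ℂ) = (22 : ℤ) := by
      rw [Int.cast_list_sum, List.map_map]
      simp only [Function.comp_def]
      push_cast; linear_combination o1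
    rw [List.map_map]; exact_mod_cast this)
  obtain _ | ⟨α, _ | ⟨β, _ | _⟩⟩ := r <;> simp at r3
  have nt : ∀ χ : IrrCharacter G, irrDeg χ ≠ 1 → 4 ∣ (irrDeg χ : ℤ) - ival χ t ∧ ival χ t < irrDeg χ ∧
      ival χ t ∈ List.map (fun i : ℕ => (i : ℤ) - 13) (List.range 27) := fun χ h => by
    obtain ⟨u, u1, u2, -, u4, -⟩ := exists_invol_val (perf hc) (ne_triv_of_deg h) ht
    have u3 := sq_le_card_centralizer u1
    rw [t1, Nat.cast_ofNat] at u3
    have : -14 < u := by nlinarith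
    have : u < 14 := by nlinarith
    rw [ival_eq u1]
    exact ⟨u2, u4, List.mem_map.mpr ⟨(u + 13).toNat, List.mem_range.mpr (by omega), by omega⟩⟩
  have key : ∀ A ∈ List.map (fun i : ℕ => (i : ℤ) - 13) (List.range 27),
      (4 ∣ 11 - A ∧ A < 11 ∧ 6 - A < 11 → 64 ∣ 5 * (3 * (A ^ 2 + (6 - A) ^ 2) + 10) → A = 3) ∧
      (4 ∣ 66 - A → 256 ∣ 5 * (2 * A ^ 2 - 3 * (A - 6) ^ 2 + 40) →
        2 * A ^ 2 - 3 * (A - 6) ^ 2 + 40 ≤ 0) := by decide +kernel
  have vα := coe_ival (iy α)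
  have vβ := coe_ival (iy β)
  simp [bv, zs, l17, t2] at θt
  have tc := f1.1 ▸ it c'
  have te := f1.2.1 ▸ it e
  have tf := f1.2.2.1 ▸ it f
  have tg := f1.2.2.2.1 ▸ it g
  have tb := t2.2.1 ▸ it b
  have nα := nt α (by omega)
  have nβ := nt β (by omega)
  rcases r3 with ⟨⟨α1, α2⟩, β1, β2⟩ | ⟨⟨α1, α2⟩, β1, β2⟩ <;> rw [α1] at vα <;> rw [β1] at vβ <;>
    rw [α2] at nα <;> rw [β2] at nβ <;>
    simp [vc, ve, vf, vg, θy', vb, vα, vβ, θt, it α, it β, tc, te, tf, tg, tb, d1, dc, de, df, dg,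
      db, h4, α2, β2] at ot cm
  swap
  · exfalso
    have e1 : ival α t = ival β t - 6 := by
      have : (ival α t : ℂ) = (ival β t - 6 : ℤ) := by push_cast; linear_combination -ot
      exact_mod_cast this
    have e2 : 256 * (m : ℤ) = 5 * (2 * ival β t ^ 2 - 3 * (ival β t - 6) ^ 2 + 40) := by
      have : ((256 * (m : ℤ) : ℤ) : ℂ) =
          (5 * (2 * ival β t ^ 2 - 3 * (ival α t) ^ 2 + 40) : ℤ) := by
        push_cast; linear_combination cm / 144
      rw [← e1]; exact_mod_cast this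
    have := (key _ nβ.2.2).2 nβ.1 ⟨m, e2.symm⟩
    omega
  have e1 : ival β t = 6 - ival α t := by
    have : (ival β t : ℂ) = (6 - ival α t : ℤ) := by push_cast; linear_combination ot
    exact_mod_cast this
  have e2 : 64 * (m : ℤ) = 5 * (3 * (ival α t ^ 2 + (6 - ival α t) ^ 2) + 10) := by
    have : ((64 * (m : ℤ) : ℤ) : ℂ) = (5 * (3 * (ival α t ^ 2 + ival β t ^ 2) + 10) : ℤ) := by
      push_cast; linear_combination cm / 576
    rw [← e1]; exact_mod_cast this
  have e3 := (key _ nα.2.2).1 ⟨nα.1, nα.2.1, e1 ▸ nβ.2.1⟩ ⟨m, e2.symm⟩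
  have fin : ∀ χ : IrrCharacter G, irrDeg χ = 11 → χ.1 y = (1 : ℤ) → ival χ t = 3 →
      χ.1 w = -1 ∨ ∃ (w : G) (χ : IrrCharacter G) (n : ℕ),
      w * y * w⁻¹ = y ^ 2 ∧ orderOf w = 4 ∧ Nat.card (normalizer (zpowers y : Set G)) = 40 ∧
      irrDeg χ = 11 ∧ (∀ i, 0 < i → i < 5 → χ.1 (y ^ i) = 1) ∧ 3 ≤ n ∧
      avg (zpowers y ⊔ zpowers w) χ.1 = n := fun χ h5 h6 h7 =>
    (w_val hc hy z3 hw1 hw h5 (by simpa using h6) (by rw [ht0, it, h7]; simp)).imp_right
      fun ⟨n, h8, h9⟩ => ⟨w, χ, n, hw1, hw, hN, h5, fun i h h' =>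
        (val_pow hy z3 χ (Nat.not_dvd_of_pos_of_lt h h')).trans (by simpa using h6), h8, h9⟩
  refine (fin α α2 vα e3).elim (fun wα => (fin β β2 vβ (by omega)).elim (fun wβ => ?_) id) id
  exfalso
  have h5 := four (by
    have h6 := norm_add_le (d1B0 11 G) (o := [α, β, e]) (by
      simp at r1 ⊢; tauto) (by
        simp only [List.mem_cons, List.not_mem_nil, or_false]
        rintro χ (rfl | rfl | rfl) h <;> exact n11 _ h (by omega)) w
    obtain ⟨u, v, u1, u2, -⟩ := exists_four (perf hc) e (hw ▸ pow_orderOf_eq_one w) (ht0 ▸ it e)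
    have u3 : (1 : ℝ) ≤ ‖e.1 w‖ ^ 2 := by
      rw [u1, ← Complex.normSq_eq_norm_sq, Complex.normSq_apply]
      simp
      have : u ≠ 0 := by rw [de, ht0, f1.2.1] at u2; omega
      have : 1 ≤ u * u + v * v := by nlinarith [mul_self_pos.mpr this, mul_self_nonneg v]
      exact_mod_cast this
    simp [wα, wβ] at h6
    push_cast; linarith) _ (test4b _ (Nat.mem_divisors.mpr ⟨t1 ▸ ht0 ▸ card_dvd_of_le fun g hg =>
      mem_centralizer_singleton_iff.mpr
        (Commute.pow_right (mem_centralizer_singleton_iff.mp hg) 2), by norm_num⟩))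
  rw [bne_iff_ne] at h5
  apply h5
  simp [vc, ve, vf, vg, θy', vb, vα, vβ, wα, wβ, θw, F.one, sc, se, sf, sg] at ow rw5
  rw [coe_ival (hint w b (by simp))] at ow
  have : ((2 * bv [ival a w, ival b w, ival c' w, ival d w] - ival b w : ℤ) : ℂ) = (2 : ℤ) := by
    push_cast; linear_combination ow - rw5
  exact_mod_cast this

end Cfsg.Lib.OC.M12
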